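import Mathlib
import Cfsg.Agent.Lib.MonType.L2
import Cfsg.Agent.Lib.Leech.Dual
import Cfsg.Agent.Lib.Leech.Shape
import Cfsg.Agent.Lib.Leech.Mat

/-!
The sublattice of vectors supported on an octad, and the classes fixed by the sign change.
-/

set_option autoImplicit false
set_option exponentiation.threshold 700

namespace H7.ML

open Cfsg Subgroup H95 H16
open scoped symmDiff Pointwise

/-- supported on `O` -/
def Sup (O : Finset GolayPt) (v : leechLattice) : Prop := ∀ i, i ∉ O → (v : GolayPt → ℤ) i = 0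

/-- restriction to `O` -/
def res (O : Finset GolayPt) (v : GolayPt → ℤ) : GolayPt → ℤ := fun i => if i ∈ O then v i else 0

theorem res_apply (O : Finset GolayPt) (v : GolayPt → ℤ) (i : GolayPt) :
    res O v i = if i ∈ O then v i else 0 := rfl

/-- the vector with two entries four -/
def lv44 (i j : GolayPt) : leechLattice := ⟨v44 i j 1 1, v44_mem i j (Or.inl rfl) (Or.inl rfl)⟩

theorem lv44_apply (i j k : GolayPt) :
    (lv44 i j : GolayPt → ℤ) k = (if k = i then 4 else 0) + (if k = j then 4 else 0) := by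
  simpa [lv44] using v44_apply i j 1 1 k

theorem sqNorm_lv44 {i j : GolayPt} (h : i ≠ j) : sqNorm (lv44 i j : GolayPt → ℤ) = 32 :=
  sqNorm_v44 h (Or.inl rfl) (Or.inl rfl)

/-- twice the indicator of a code word -/
def lrep (c : Finset GolayPt) (hc : c ∈ code) : leechLattice := ⟨rep 0 c, (cong_rep 0 hc).mem hc⟩

theorem lrep_apply (c : Finset GolayPt) (hc : c ∈ code) (i : GolayPt) :
    (lrep c hc : GolayPt → ℤ) i = if i ∈ c then 2 else 0 := by
  change rep 0 c i = _
  rw [rep_zero]
  simp only [ind_apply]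
  split_ifs <;> rfl

theorem e8_apply (j i : GolayPt) : (e8 j : GolayPt → ℤ) i = if i = j then 8 else 0 := by
  rw [coe_e8, Pi.single_apply]

theorem cg_of_two {v w : leechLattice} {u : GolayPt → ℤ} (hu : u ∈ leechLattice)
    (h : ∀ i, (v : GolayPt → ℤ) i = (w : GolayPt → ℤ) i + 2 * u i) : Cg v w :=
  cg_iff.2 ⟨⟨u, hu⟩, Subtype.ext (funext fun i => by
    simp only [AddSubgroup.coe_add, Pi.add_apply, h i]; ring)⟩

theorem exists_of_cg {v w : leechLattice} (h : Cg v w) : ∃ u : leechLattice,
    ∀ i, (v : GolayPt → ℤ) i = (w : GolayPt → ℤ) i + 2 * (u : GolayPt → ℤ) i := by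
  obtain ⟨u, rfl⟩ := cg_iff.1 h
  exact ⟨u, fun i => by simp only [AddSubgroup.coe_add, Pi.add_apply]; ring⟩

theorem cg_add_self (u v : leechLattice) : Cg (v + (u + u)) v := cg_iff.2 ⟨u, rfl⟩

theorem dot_cg {v w : leechLattice} (h : Cg v w) (u : leechLattice) :
    (16 : ℤ) ∣ dotInt (v : GolayPt → ℤ) u ↔ (16 : ℤ) ∣ dotInt (w : GolayPt → ℤ) u := by
  obtain ⟨a, rfl⟩ := cg_iff.1 h
  have := eight_dvd_dotInt a.2 u.2
  simp only [AddSubgroup.coe_add, H16.dotInt_add_left]
  omega

theorem cg_eight {v : leechLattice} (h : ∀ i, (8 : ℤ) ∣ (v : GolayPt → ℤ) i) (j : GolayPt) :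
    Cg v 0 ∨ Cg v (e8 j) := by
  choose k hk using h
  by_cases h2 : (2 : ℤ) ∣ ∑ i, k i
  · left
    refine cg_of_two (u := fun i => 4 * k i) (mem_leech_of_four_dvd (fun i => by omega) ?_)
      fun i => by simp only [hk i, AddSubgroup.coe_zero, Pi.zero_apply]; ring
    rw [← Finset.mul_sum]; omega
  · right
    refine cg_of_two (u := fun i => 4 * k i - if i = j then 4 else 0)
      (mem_leech_of_four_dvd (fun i => by split_ifs <;> omega) ?_)
      fun i => by rw [hk i, e8_apply]; split_ifs <;> ring
    rw [Finset.sum_sub_distrib, ← Finset.mul_sum, Finset.sum_ite_eq']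
    simp only [Finset.mem_univ, if_true]
    omega

theorem mono_v44 {σ : Equiv.Perm GolayPt} {hσ : σ ∈ M24} {d : Finset GolayPt} {hd : d ∈ code}
    {i j : GolayPt} (hij : i ≠ j) (h : Cg (mono σ hσ d hd • lv44 i j) (lv44 i j)) :
    (σ i = i ∨ σ i = j) ∧ (σ i = i → σ j = j → (i ∈ d ↔ j ∈ d)) := by
  have hn := sqNorm_lv44 hij
  have h1 := mono_smul_apply hσ hd (lv44 i j) i
  have h2 := mono_smul_apply hσ hd (lv44 i j) j
  have hji := hij.symm
  rcases h.short (by rw [sqNorm_co0]; omega) (by omega) with e | e | e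
  · rw [e] at h1 h2
    simp only [lv44_apply, hij, hji, if_true, if_false] at h1 h2
    refine ⟨by_contra fun hn => ?_, fun a b => ?_⟩
    · rw [not_or] at hn
      simp only [hn.1, hn.2, if_false] at h1
      split_ifs at h1 <;> omega
    · simp only [a, b, hij, hji, if_true, if_false] at h1 h2
      split_ifs at h1 h2 <;> first | omega | tauto
  · rw [e] at h1 h2
    simp only [AddSubgroup.coe_neg, Pi.neg_apply, lv44_apply, hij, hji, if_true, if_false] at h1 h2
    refine ⟨by_contra fun hn => ?_, fun a b => ?_⟩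
    · rw [not_or] at hn
      simp only [hn.1, hn.2, if_false] at h1
      split_ifs at h1 <;> omega
    · simp only [a, b, hij, hji, if_true, if_false] at h1 h2
      split_ifs at h1 h2 <;> first | omega | tauto
  · omega

theorem eps_v44_iff {d : Finset GolayPt} (hd : d ∈ code) {i j : GolayPt} (hij : i ≠ j) :
    Cg (eps d hd • lv44 i j) (lv44 i j) ↔ (i ∈ d ↔ j ∈ d) := by
  refine ⟨fun h => (mono_v44 hij h).2 rfl rfl, fun h => ?_⟩
  by_cases hi : i ∈ d
  · have : eps d hd • lv44 i j = -lv44 i j := Subtype.ext (funext fun k => by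
      rw [eps_smul_apply, AddSubgroup.coe_neg, Pi.neg_apply, lv44_apply]
      split_ifs with a b c <;> first | rfl | (subst_vars; tauto))
    rw [this]; exact (cg_neg _).symm
  · have : eps d hd • lv44 i j = lv44 i j := Subtype.ext (funext fun k => by
      rw [eps_smul_apply, lv44_apply]
      split_ifs with a b c <;> first | rfl | (subst_vars; tauto))
    rw [this]; exact Cg.refl _

theorem mono_fix {σ : Equiv.Perm GolayPt} {hσ : σ ∈ M24} {d : Finset GolayPt} {hd : d ∈ code}
    {S : Finset GolayPt} (h3 : 3 ≤ S.card)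
    (h : ∀ i ∈ S, ∀ j ∈ S, i ≠ j → Cg (mono σ hσ d hd • lv44 i j) (lv44 i j)) :
    (∀ i ∈ S, σ i = i) ∧ ∀ i ∈ S, ∀ j ∈ S, (i ∈ d ↔ j ∈ d) := by
  have h1 : ∀ i ∈ S, σ i = i := by
    intro i hi
    obtain ⟨j, hj, k, hk, hjk⟩ := Finset.one_lt_card.1
      (show 1 < (S.erase i).card by rw [Finset.card_erase_of_mem hi]; omega)
    rw [Finset.mem_erase] at hj hk
    rcases (mono_v44 hj.1.symm (h i hi j hj.2 hj.1.symm)).1 with a | a
    · exact a
    · exact (mono_v44 hk.1.symm (h i hi k hk.2 hk.1.symm)).1.resolve_right fun b =>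
        hjk (a.symm.trans b)
  refine ⟨h1, fun i hi j hj => ?_⟩
  by_cases e : i = j
  · rw [e]
  · exact (mono_v44 e (h i hi j hj e)).2 (h1 i hi) (h1 j hj)

variable {O : Finset GolayPt}

theorem Sup.add {v w : leechLattice} (hv : Sup O v) (hw : Sup O w) : Sup O (v + w) := fun i hi => by
  rw [AddSubgroup.coe_add, Pi.add_apply, hv i hi, hw i hi, add_zero]

theorem Sup.neg {v : leechLattice} (hv : Sup O v) : Sup O (-v) := fun i hi => by
  rw [AddSubgroup.coe_neg, Pi.neg_apply, hv i hi, neg_zero]

theorem Sup.sub {v w : leechLattice} (hv : Sup O v) (hw : Sup O w) : Sup O (v - w) := by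
  rw [sub_eq_add_neg]; exact hv.add hw.neg

theorem sup_lv44 {i j : GolayPt} (hi : i ∈ O) (hj : j ∈ O) : Sup O (lv44 i j) := fun k hk => by
  rw [lv44_apply, if_neg (fun e : k = i => hk (e ▸ hi)), if_neg (fun e : k = j => hk (e ▸ hj)),
    add_zero]

theorem sup_e8 {j : GolayPt} (hj : j ∈ O) : Sup O (e8 j) := fun k hk => by
  rw [e8_apply, if_neg (fun e : k = j => hk (e ▸ hj))]

theorem sup_lrep {c : Finset GolayPt} (hc : c ∈ code) (h : c ⊆ O) : Sup O (lrep c hc) :=
  fun k hk => by rw [lrep_apply, if_neg fun e => hk (h e)]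

theorem card_compl_octad (hO : O ∈ octads) : Oᶜ.card = 16 := by
  rw [Finset.card_compl, card_pt, hO.2]

theorem exists_notMem (hO : O ∈ octads) : ∃ i, i ∉ O := by
  obtain ⟨i, hi⟩ := Finset.card_pos.1 (show 0 < Oᶜ.card by rw [card_compl_octad hO]; norm_num)
  exact ⟨i, Finset.mem_compl.1 hi⟩

theorem exists_mem (hO : O ∈ octads) : ∃ i, i ∈ O :=
  Finset.card_pos.1 (by rw [hO.2]; norm_num)

theorem code_sub (hO : O ∈ octads) {c : Finset GolayPt} (hc : c ∈ code) (h : c ⊆ O) :
    c = ∅ ∨ c = O := by
  have h1 := Finset.card_le_card h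
  rw [hO.2] at h1
  rcases h1.lt_or_eq with e | e
  · exact Or.inl (eq_empty_of_card_lt hc e)
  · exact Or.inr (Finset.eq_of_subset_of_card_le h (by rw [hO.2, e]))

theorem Sup.cong (hO : O ∈ octads) {w : leechLattice} (hw : Sup O w) :
    Cong w 0 ∅ ∨ Cong w 0 O := by
  rcases (mem_leech_iff' _).1 w.2 with ⟨c, hc, h⟩ | ⟨c, hc, h⟩
  · refine (code_sub hO hc fun i hi => by_contra fun hn => ?_).imp (fun e => by rwa [e] at h)
      fun e => by rwa [e] at h
    have := h.1 i
    rw [hw i hn, ind_of_mem hi] at this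
    omega
  · obtain ⟨i, hi⟩ := exists_notMem hO
    have := h.1 i
    rw [hw i hi, ind_apply] at this
    split_ifs at this <;> omega

theorem Sup.norm (hO : O ∈ octads) {w : leechLattice} (hw : Sup O w) :
    (32 : ℤ) ∣ sqNorm (w : GolayPt → ℤ) := by
  rcases hw.cong hO with h | h
  · exact h.norm_empty
  · have h1 := h.sub (cong_rep 0 hO.1)
    rw [symmDiff_self, sub_zero] at h1
    have h2 := Cong.norm_empty h1
    have h3 : dotInt (w : GolayPt → ℤ) (rep 0 O) = 2 * ∑ i, (w : GolayPt → ℤ) i := by
      rw [dotInt_def, Finset.mul_sum]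
      refine Finset.sum_congr rfl fun i _ => ?_
      rw [rep_zero]
      by_cases hi : i ∈ O
      · simp only [ind_of_mem hi]; ring
      · simp [hw i hi]
    have h4 := h.2
    rw [sqNorm_sub, sqNorm_rep_zero, hO.2, h3] at h2
    omega

theorem Sup.dot (hO : O ∈ octads) {v w : leechLattice} (hv : Sup O v) (hw : Sup O w) :
    (16 : ℤ) ∣ dotInt (v : GolayPt → ℤ) w := by
  have h1 := (hv.add hw).norm hO
  have h2 := hv.norm hO
  have h3 := hw.norm hO
  rw [AddSubgroup.coe_add, sqNorm_add] at h1
  omega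

theorem fix_iff (hO : O ∈ code) {v : leechLattice} :
    Cg (eps O hO • v) v ↔ res O v ∈ leechLattice := by
  constructor
  · intro h
    obtain ⟨u, hu⟩ := exists_of_cg h
    have : res O v = -(u : GolayPt → ℤ) := funext fun i => by
      have := hu i
      rw [eps_smul_apply] at this
      rw [res_apply, Pi.neg_apply]
      split_ifs at this ⊢ <;> omega
    rw [this]; exact neg_mem u.2
  · intro h
    refine cg_of_two (neg_mem h) fun i => ?_
    rw [eps_smul_apply, Pi.neg_apply, res_apply]
    split_ifs <;> ring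

theorem Sup.eps_smul (hO : O ∈ code) {v : leechLattice} (h : Sup O v) : eps O hO • v = -v :=
  Subtype.ext (funext fun i => by
    rw [eps_smul_apply, AddSubgroup.coe_neg, Pi.neg_apply]
    split_ifs with hi
    · rfl
    · rw [h i hi, neg_zero])

theorem Sup.eps_smul_compl (hO : O ∈ code) {v : leechLattice} (h : Sup Oᶜ v) : eps O hO • v = v :=
  Subtype.ext (funext fun i => by
    rw [eps_smul_apply]
    split_ifs with hi
    · rw [h i (by simpa using hi), neg_zero]
    · rfl)

theorem Sup.fix (hO : O ∈ code) {v : leechLattice} (h : Sup O v) : Cg (eps O hO • v) v := by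
  rw [h.eps_smul]; exact (cg_neg v).symm

theorem Sup.fix_compl (hO : O ∈ code) {v : leechLattice} (h : Sup Oᶜ v) : Cg (eps O hO • v) v := by
  rw [h.eps_smul_compl]; exact Cg.refl v

theorem sup_res {v : leechLattice} (h : res O v ∈ leechLattice) : Sup O ⟨_, h⟩ :=
  fun _ hi => if_neg hi

theorem sup_eps_sub (hO : O ∈ code) (v : leechLattice) : Sup O (eps O hO • v - v) := fun i hi => by
  rw [AddSubgroup.coe_sub, Pi.sub_apply, eps_smul_apply, if_neg hi, sub_self]

theorem fix_cong (hO : O ∈ octads) {v : leechLattice} (h : Cg (eps O hO.1 • v) v) :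
    ∃ d ∈ code, Cong v 0 d ∧ ∀ i ∈ O, ∀ j ∈ O, (i ∈ d ↔ j ∈ d) := by
  have h1 := (sup_res ((fix_iff hO.1).1 h)).cong hO
  have h2 : ∀ i ∈ O, ∀ j ∈ O, (4 : ℤ) ∣ (v : GolayPt → ℤ) i - (v : GolayPt → ℤ) j ∧
      (2 : ℤ) ∣ (v : GolayPt → ℤ) i := by
    intro i hi j hj
    rcases h1 with e | e
    · have a := e.1 i
      have b := e.1 j
      simp only [res_apply, hi, hj, if_true, ind_of_notMem (Finset.notMem_empty _)] at a b
      omega
    · have a := e.1 i
      have b := e.1 j
      simp only [res_apply, hi, hj, if_true, ind_of_mem] at a b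
      omega
  rcases (mem_leech_iff' _).1 v.2 with ⟨c, hc, e⟩ | ⟨c, hc, e⟩
  · refine ⟨c, hc, e, fun i hi j hj => ?_⟩
    have a := e.1 i
    have b := e.1 j
    have := h2 i hi j hj
    rw [ind_apply] at a b
    split_ifs at a b <;> first | omega | tauto
  · obtain ⟨i, hi⟩ := exists_mem hO
    have a := e.1 i
    have := h2 i hi i hi
    omega

theorem Sup.dot_fix (hO : O ∈ octads) {v w : leechLattice} (hw : Sup O w)
    (h : Cg (eps O hO.1 • v) v) : (16 : ℤ) ∣ dotInt (w : GolayPt → ℤ) v := by
  have h1 := hw.dot hO (sup_res ((fix_iff hO.1).1 h))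
  convert h1 using 1
  rw [dotInt_def, dotInt_def]
  refine Finset.sum_congr rfl fun i _ => ?_
  by_cases hi : i ∈ O
  · simp only [res_apply, hi, if_true]
  · simp only [hw i hi, zero_mul]

theorem sup_of_perp_aux (hO : O ∈ octads) {v : leechLattice}
    (h4 : ∀ i, i ∉ O → (4 : ℤ) ∣ (v : GolayPt → ℤ) i)
    (h : ∀ u : leechLattice, Sup Oᶜ u → (16 : ℤ) ∣ dotInt (v : GolayPt → ℤ) u) :
    ∃ w, Sup O w ∧ Cg v w := by
  classical
  let D := Finset.univ.filter fun i => i ∉ O ∧ ¬ (8 : ℤ) ∣ (v : GolayPt → ℤ) i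
  have hD : ∀ i, i ∈ D ↔ i ∉ O ∧ ¬ (8 : ℤ) ∣ (v : GolayPt → ℤ) i := fun i => by simp [D]
  obtain ⟨c, hc, e⟩ := exists_code_inter_eq Oᶜ D (fun i hi => Finset.mem_compl.2 ((hD i).1 hi).1) (by
    intro c hc hcO
    have h1 := h _ (sup_lrep hc hcO)
    have h2 : (16 : ℤ) ∣ ∑ i, ((v : GolayPt → ℤ) i * (lrep c hc : GolayPt → ℤ) i -
        8 * (ind c i * ind D i)) := Finset.dvd_sum fun i _ => by
      rw [lrep_apply, ind_apply, ind_apply]
      have := hD i
      by_cases hi : i ∈ c
      · have h5 := Finset.mem_compl.1 (hcO hi)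
        have h6 := h4 i h5
        by_cases hj : i ∈ D
        · have := (this.1 hj).2
          simp only [hi, hj, if_true]; omega
        · have : (8 : ℤ) ∣ (v : GolayPt → ℤ) i := by_contra fun hn => hj (this.2 ⟨h5, hn⟩)
          simp only [hi, hj, if_true, if_false]; omega
      · simp [hi]
    rw [Finset.sum_sub_distrib, ← Finset.mul_sum, sum_ind_mul_ind, ← dotInt_def] at h2
    omega)
  have h8 : ∀ i, (8 : ℤ) ∣ res Oᶜ (v - (lrep c hc + lrep c hc) : leechLattice) i := by
    intro i
    rw [res_apply]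
    split_ifs with hi
    · have h5 : i ∈ c ↔ i ∈ D := by rw [← e, Finset.mem_inter]; tauto
      have h6 := Finset.mem_compl.1 hi
      have h7 := h4 i h6
      rw [hD] at h5
      simp only [AddSubgroup.coe_sub, AddSubgroup.coe_add, Pi.sub_apply, Pi.add_apply, lrep_apply]
      split_ifs with hj
      · have := (h5.1 hj).2; omega
      · have : (8 : ℤ) ∣ (v : GolayPt → ℤ) i := by_contra fun hn => hj (h5.2 ⟨h6, hn⟩)
        omega
    · exact dvd_zero _
  let r : leechLattice := ⟨_, mem_leech_of_four_dvd (fun i => by have := h8 i; omega)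
    (Finset.dvd_sum fun i _ => h8 i)⟩
  have h9 : Sup O (v - (lrep c hc + lrep c hc) - r) := fun i hi => by
    rw [AddSubgroup.coe_sub, Pi.sub_apply]
    exact sub_eq_zero.2 (if_pos (Finset.mem_compl.2 hi)).symm
  obtain ⟨j, hj⟩ := exists_mem hO
  have h10 : Cg v (v - (lrep c hc + lrep c hc) - r + r) := cg_iff.2 ⟨lrep c hc, by abel⟩
  rcases cg_eight (v := r) h8 j with f | f
  · exact ⟨_, h9, h10.trans (by simpa only [add_zero] using (Cg.refl _).add f)⟩
  · exact ⟨_, h9.add (sup_e8 hj), h10.trans ((Cg.refl _).add f)⟩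

theorem sup_of_perp (hO : O ∈ octads) {v : leechLattice}
    (h : ∀ u : leechLattice, Sup Oᶜ u → (16 : ℤ) ∣ dotInt (v : GolayPt → ℤ) u) :
    ∃ w, Sup O w ∧ Cg v w := by
  have h1 : ∀ i, i ∉ O → ∀ j, j ∉ O → (4 : ℤ) ∣ (v : GolayPt → ℤ) i + (v : GolayPt → ℤ) j := by
    intro i hi j hj
    have := h _ (sup_lv44 (Finset.mem_compl.2 hi) (Finset.mem_compl.2 hj))
    rw [dotInt_comm] at this
    have e := dotInt_v44 i j 1 1 v
    change dotInt (lv44 i j : GolayPt → ℤ) v = _ at e
    omega
  obtain ⟨j, hj⟩ := exists_notMem hO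
  obtain ⟨k, hk⟩ : (2 : ℤ) ∣ (v : GolayPt → ℤ) j := by have := h1 j hj j hj; omega
  let a : leechLattice := k • ⟨odd3 none, (cong_odd3 _).mem empty_mem_code⟩
  have h2 : Cg (v + (a + a)) v := cg_add_self a v
  obtain ⟨w, h3, h4⟩ := sup_of_perp_aux hO (v := v + (a + a)) (fun i hi => by
    have := h1 i hi j hj
    simp only [a, AddSubgroup.coe_add, Pi.add_apply, AddSubgroup.coe_zsmul, Pi.smul_apply,
      smul_eq_mul, odd3_apply]
    split_ifs <;> omega) fun u hu => (dot_cg h2 u).2 (h u hu)
  exact ⟨w, h3, h2.symm.trans h4⟩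

/-- code of an automorphism commuting with the sign change on the standard octad -/
def xiP : ℕ := 0x1200100010001000100010001200100010000e0010001000100010001000100010001000120010000a0012000e00120010001200120012001200120010001200120010000e000e000e0012000e000e0012000e001000120010001000100010001000120012000e001200120010000e000e00100012001200120012000e000e000e00120010001200100010001000100010000e0012000e000e0012001000120012001000120012000e001200120012000e000e0010001200100010001000100010000e001200120012000e0010000e001200100012001200120012000e00120012000e0010000e001000100010001000100012000e0012000e000e0010001200120010000e001200120012000e0012000e0012001000120010001000100010000e00100010001000100010000e00100010001200100010001000100010001000100010000e0010000e000e000a000e00100012000e000e001200120010000e00120010000e0012000e001200120012001200120010000e00100010001000100010001200120012000e000e00100012000e001000120012000e00120012000e001200120010000e0010001000100010001200100010001000100010001200100010000e0010001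0001000100010001000100010001200100012000a000e0012001000120012000e000e001200100012001200100012000e0012000e000e0012001200120010000e00100010001000100010000e000e00120012001200100012000e001000120012000e000e000e0012001200120010001200100010001000100010000e00120012000e00120010000e000e0010000e000e001200120012001200120012001000120010001000100010001000120012000e0012000e00100012000e0010000e00120012000e001200120012000e0010001200100010001000100010000e00120012001200120010001200120010000e00120012000e0012000e000e00120010000e001000100010001000100012001200120012000e0010000e001200100012000e000e000e00120012000e001200100012001000100010001000100012000e00120012001200100012000e00100012000e0012001200120012000e000e0010000e00100010001000100010000e000e000e0012000e00100012001200100012000e001200120012000e00120012001000120010001000100010001200100010001000100010001200100010000e001000100010001000100010001000100012001000120012000e000a00100012000e0012000e00120010000e00120010001200120012000e0012000e0012000e001000120010001000100010000e00100010001000100010000e00100010000a00100010001000100010001000100010000e0010000e000e0012000e001200100010001000100010001200100010000e00100010001000100010001000100010000a001000120012000e0012000a00100010001000100010001200100010000e001000100010001000100010001000100012001000120012000e0012001200100010001000100010000a00100010000e001000100010001000100010001000100012001000120012000e0012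

theorem exists_xi (hO : O ∈ octads) : ∃ γ : Co0, γ * eps O hO.1 = eps O hO.1 * γ ∧
    ∃ x : leechLattice, Cg (γ • e8 none) x ∧ Sup O x ∧ ∀ i ∈ O, (4 : ℤ) ∣ (x : GolayPt → ℤ) i - 2 := by
  have h1 : IsM xiP (el xiP) := isM_el (by decide +kernel)
  have h2 := isM_eps (m := H15.oct0) (by decide +kernel)
  have h3 : el xiP * eps _ H15.oct0_mem.1 = eps _ H15.oct0_mem.1 * el xiP :=
    (h1.mul h2).eq_el ((show mulM (epsM H15.oct0) xiP = mulM xiP (epsM H15.oct0) by
      decide +kernel) ▸ h2.mul h1)
  have h4 : ∀ i, ((el xiP • e8 none : leechLattice) : GolayPt → ℤ) i = vec (col xiP 23) i :=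
    fun i => (congrFun (h1.2 23 (by norm_num)).2 i).symm
  have h5 : ∀ i, if i ∈ H15.ofMask H15.oct0 then (4 : ℤ) ∣ vec (col xiP 23) i - 2
      else vec (col xiP 23) i = 0 := by decide +kernel
  obtain ⟨π, hπ, e⟩ := H15.M24_trans_octads H15.oct0_mem hO
  have h6 := permHom_mul_eps ⟨π, hπ⟩ H15.oct0_mem.1
  simp only [e] at h6
  have h7 : ∀ i, i ∈ O ↔ π⁻¹ i ∈ H15.ofMask H15.oct0 := fun i => by
    rw [← e, H15.mem_smul_finset_iff]
  refine ⟨permHom ⟨π, hπ⟩ * el xiP * (permHom ⟨π, hπ⟩)⁻¹, ?_, permHom ⟨π, hπ⟩ • el xiP • e8 none, ?_,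
    fun i hi => ?_, fun i hi => ?_⟩
  · rw [eq_mul_inv_of_mul_eq h6.symm]
    calc _ = permHom ⟨π, hπ⟩ * (el xiP * eps _ H15.oct0_mem.1) * (permHom ⟨π, hπ⟩)⁻¹ := by group
      _ = _ := by rw [h3]; group
  · rw [mul_smul, mul_smul, ← map_inv, permHom_smul_e8]
    exact ((show Cg _ _ from e8_sub_e8_mem _ _).smul _).smul _
  · have := h5 (π⁻¹ i)
    rw [if_neg (fun f => hi ((h7 i).2 f))] at this
    rw [permHom_smul_apply', h4]; exact this
  · have := h5 (π⁻¹ i)
    rw [if_pos ((h7 i).1 hi)] at this
    rw [permHom_smul_apply', h4]; exact this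

theorem eps_comm {c d : Finset GolayPt} (hc : c ∈ code) (hd : d ∈ code) :
    eps c hc * eps d hd = eps d hd * eps c hc := by
  simp only [eps_mul_eps, symmDiff_comm]

/-- The sublattice is generated by the images of the standard frame. -/
theorem gen_sup (hO : O ∈ octads) (L : AddSubgroup leechLattice) (h2 : ∀ u, u + u ∈ L)
    (he : e8 none ∈ L) (hγ : ∀ γ : Co0, γ * eps O hO.1 = eps O hO.1 * γ → ∀ v ∈ L, γ • v ∈ L)
    {w : leechLattice} (hw : Sup O w) : w ∈ L := by
  classical
  have hc : ∀ {v w}, Cg v w → w ∈ L → v ∈ L := fun h hw => by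
    obtain ⟨u, rfl⟩ := cg_iff.1 h
    exact add_mem hw (h2 u)
  obtain ⟨γ, h3, x, h4, h5, h6⟩ := exists_xi hO
  have hx : x ∈ L := hc h4.symm (hγ γ h3 _ he)
  have key : ∀ w : leechLattice, Sup O w → Cong w 0 ∅ → w ∈ L := by
    intro w hw h
    have h4 : ∀ i, (4 : ℤ) ∣ (w : GolayPt → ℤ) i := fun i => by
      simpa [ind_of_notMem (Finset.notMem_empty _)] using h.1 i
    let D := O.filter fun i => ¬ (8 : ℤ) ∣ (w : GolayPt → ℤ) i
    have hD : ∀ i, i ∈ D ↔ i ∈ O ∧ ¬ (8 : ℤ) ∣ (w : GolayPt → ℤ) i := fun i => by simp [D]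
    obtain ⟨c, hc', e⟩ := exists_code_inter_eq_octad hO O D subset_rfl (Finset.filter_subset _ _)
      (by rw [hO.2]; norm_num) (by
        rw [Finset.inter_eq_right.2 (Finset.filter_subset _ _)]
        have h7 : (8 : ℤ) ∣ ∑ i, ((w : GolayPt → ℤ) i - 4 * ind D i) := Finset.dvd_sum fun i _ => by
          have := h4 i
          have := hD i
          rw [ind_apply]
          split_ifs with hi
          · have := (this.1 hi).2; omega
          · by_cases hj : i ∈ O
            · have : (8 : ℤ) ∣ (w : GolayPt → ℤ) i := by_contra fun hn => hi (this.2 ⟨hj, hn⟩)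
              omega
            · rw [hw i hj]; norm_num
        have h8 := h.2
        rw [Finset.sum_sub_distrib, ← Finset.mul_sum, sum_ind] at h7
        change 2 ∣ D.card
        omega)
    have h7 : eps c hc' • x - x ∈ L := sub_mem (hγ _ (eps_comm _ _) _ hx) hx
    have h8 : w - (eps c hc' • x - x) ∈ L := by
      refine (cg_eight (fun i => ?_) none).elim (fun f => hc f (zero_mem _)) fun f => hc f he
      simp only [AddSubgroup.coe_sub, Pi.sub_apply, eps_smul_apply]
      by_cases hi : i ∈ O
      · have h9 : i ∈ c ↔ i ∈ D := by rw [← e, Finset.mem_inter]; tauto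
        have := h6 i hi
        have := h4 i
        rw [hD] at h9
        split_ifs with hj
        · have := (h9.1 hj).2; omega
        · have : (8 : ℤ) ∣ (w : GolayPt → ℤ) i := by_contra fun hn => hj (h9.2 ⟨hi, hn⟩)
          omega
      · simp [hw i hi, h5 i hi]
    simpa using add_mem h8 h7
  rcases hw.cong hO with h | h
  · exact key w hw h
  · have h7 : Cong x 0 O := (h5.cong hO).resolve_left fun f => by
      obtain ⟨i, hi⟩ := exists_mem hO
      have := f.1 i
      have := h6 i hi
      rw [ind_of_notMem (Finset.notMem_empty _)] at *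
      omega
    have h8 := h.sub h7
    rw [symmDiff_self, sub_zero] at h8
    simpa using add_mem (key _ (hw.sub h5) h8) hx

theorem Sup.exists_eps (hO : O ∈ octads) {w : leechLattice} (hw : Sup O w) :
    ∃ v, Cg w (eps O hO.1 • v + v) := by
  let L : AddSubgroup leechLattice :=
    { carrier := {w | ∃ v, Cg w (eps O hO.1 • v + v)}
      zero_mem' := ⟨0, by simpa using Cg.refl 0⟩
      add_mem' := by
        rintro a b ⟨u, hu⟩ ⟨v, hv⟩
        refine ⟨u + v, ?_⟩
        have := hu.add hv
        rwa [add_add_add_comm, ← smul_add] at this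
      neg_mem' := fun ⟨u, hu⟩ => ⟨u, (cg_neg _).symm.trans hu⟩ }
  refine gen_sup hO L (fun u => ⟨0, cg_iff.2 ⟨u, by simp⟩⟩) ?_ ?_ hw
  · obtain ⟨i, hi⟩ := exists_mem hO
    obtain ⟨j, hj⟩ := exists_notMem hO
    refine ⟨lv44 i j, (show Cg _ _ from e8_sub_e8_mem none j).trans ?_⟩
    have : eps O hO.1 • lv44 i j + lv44 i j = e8 j := Subtype.ext (funext fun k => by
      rw [AddSubgroup.coe_add, Pi.add_apply, eps_smul_apply, lv44_apply, e8_apply]
      split_ifs <;> first | rfl | (subst_vars; tauto))
    rw [this]; exact Cg.refl _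
  · rintro γ hγ v ⟨u, hu⟩
    refine ⟨γ • u, ?_⟩
    have := hu.smul γ
    rwa [smul_add, ← mul_smul, hγ, mul_smul] at this

/-- The classes of vectors supported on `O`. -/
def WB (O : Finset GolayPt) : Set L2 := {x | ∃ w, Sup O w ∧ mk2 w = x}

theorem ncard_WB (hO : O ∈ octads) : (WB O).ncard = 2 ^ 8 := by
  let L : AddSubgroup leechLattice :=
    { carrier := {w | Sup O w}
      zero_mem' := fun _ _ => rfl
      add_mem' := Sup.add
      neg_mem' := Sup.neg }
  let f : L →ₗ[ℤ] (O → ℤ) :=
    { toFun := fun w i => (w.1 : GolayPt → ℤ) i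
      map_add' := fun _ _ => rfl
      map_smul' := fun _ _ => rfl }
  have hf : Function.Injective f := fun a b e => Subtype.ext (Subtype.ext (funext fun i => by
    by_cases hi : i ∈ O
    · exact congrFun e ⟨i, hi⟩
    · rw [a.2 i hi, b.2 i hi]))
  let g : (O → ℤ) →ₗ[ℤ] L :=
    { toFun := fun u => ⟨⟨(8 : ℤ) • fun i => if h : i ∈ O then u ⟨i, h⟩ else 0, eight_smul_mem _⟩,
        fun i hi => by simp [hi]⟩
      map_add' := fun a b => Subtype.ext (Subtype.ext (funext fun i => by
        by_cases hi : i ∈ O <;> simp [hi, mul_add]))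
      map_smul' := fun a b => Subtype.ext (Subtype.ext (funext fun i => by
        by_cases hi : i ∈ O <;> simp [hi, mul_left_comm])) }
  have hg : Function.Injective g := fun a b e => funext fun i => by
    simpa [g, i.2] using congrFun (congrArg (fun w : L => (w.1 : GolayPt → ℤ)) e) i
  have : Module.Finite ℤ L := Module.Finite.of_injective f hf
  have : Module.IsTorsionFree ℤ L := Function.Injective.moduleIsTorsionFree f hf fun r m => map_smul f r m
  have h1 : Module.finrank ℤ L = 8 := by
    have a := LinearMap.finrank_le_finrank_of_injective hf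
    have b := LinearMap.finrank_le_finrank_of_injective hg
    rw [Module.finrank_fintype_fun_eq_card, Fintype.card_coe, hO.2] at a b
    omega
  have h2 := AddSubgroup.index_range_nsmul L 2
  have h3 : (mk2.comp L.subtype).ker = (nsmulAddMonoidHom (α := L) 2).range := by
    ext w
    rw [AddMonoidHom.mem_ker, AddMonoidHom.comp_apply, ← map_zero mk2, mk2_eq, cg_iff]
    constructor
    · rintro ⟨u, hu⟩
      refine ⟨⟨u, fun i hi => ?_⟩, Subtype.ext (by simpa [two_nsmul] using hu.symm)⟩
      have := congrFun (congrArg Subtype.val hu) i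
      have h0 := w.2 i hi
      simp only [AddSubgroup.coe_subtype, zero_add, AddSubgroup.coe_add, Pi.add_apply] at this
      omega
    · rintro ⟨u, rfl⟩
      exact ⟨u, by simp [two_nsmul]⟩
  rw [← h3, AddSubgroup.index_ker, h1] at h2
  rw [← h2, ← Nat.card_coe_set_eq]
  congr 2
  ext x
  exact ⟨fun ⟨w, hw, e⟩ => ⟨⟨w, hw⟩, e⟩, fun ⟨w, e⟩ => ⟨w.1, w.2, e⟩⟩

theorem ncard_fix_eps (hO : O ∈ octads) : {x : L2 | eps O hO.1 • x = x}.ncard = 2 ^ 16 := by
  let δ : L2 →+ L2 := DistribSMul.toAddMonoidHom L2 (eps O hO.1) + AddMonoidHom.id L2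
  have h1 := AddSubgroup.card_mul_index δ.ker
  have h2 : (δ.range : Set L2) = WB O := by
    ext x
    constructor
    · rintro ⟨y, rfl⟩
      obtain ⟨v, rfl⟩ := mk2_surj y
      refine ⟨_, sup_eps_sub hO.1 v, ?_⟩
      rw [sub_eq_add_neg, map_add, mk2_neg]; rfl
    · rintro ⟨w, hw, rfl⟩
      obtain ⟨v, hv⟩ := hw.exists_eps hO
      exact ⟨mk2 v, by rw [mk2_eq.2 hv, map_add]; rfl⟩
  have h3 : (δ.ker : Set L2) = {x : L2 | eps O hO.1 • x = x} := by
    ext x
    change eps O hO.1 • x + x = 0 ↔ _ = _
    rw [← L2_add_self x, add_left_inj]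
  rw [AddSubgroup.index_ker, card_L2, ← SetLike.coe_sort_coe, ← SetLike.coe_sort_coe, h2, h3,
    Nat.card_coe_set_eq, Nat.card_coe_set_eq, ncard_WB hO] at h1
  omega

theorem eqns_Lat : True := by
  have := @Sup.eq_1
  have := @res.eq_1
  have := @lv44.eq_1
  have := @lrep.eq_1
  have := @xiP.eq_1
  have := @WB.eq_1
  trivial

end H7.ML
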