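import Mathlib
import Cfsg.Agent.Lib.MonLoc.Ark
import Cfsg.Agent.Lib.MonLoc.Coord
import Cfsg.Agent.Lib.Orth12.Omega

/-!
Groups of Monster type: the quadratic form on the ark; the normalizer induces all Eichler maps.
-/

set_option autoImplicit false
set_option linter.unusedSectionVars false

namespace H7.ML

open Cfsg Subgroup H95 H16 QuadraticMap

theorem zmod2_eq (a : ZMod 2) : a = 0 ∨ a = 1 := by revert a; decide

theorem eq_eich {V : Type*} [AddCommGroup V] [Module (ZMod 2) V] {q : QuadraticForm (ZMod 2) V}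
    {g : H12.O q} {u y w : V} (hu : q u = 0) (hy : polar q u y = 1) (hw : polar q u w = 0)
    (h1 : ∀ x, polar q u x = 0 → g.1 x = x ∨ g.1 x = x + u)
    (h2 : g.1 y = y + w ∨ g.1 y = y + w + u) : g = H12.eich q u w := by
  have uu : polar q u u = 0 := by rw [H12.B_self, hu, mul_zero]
  have hy' : polar q y u = 1 := by rw [polar_comm, hy]
  have hw' : polar q w u = 0 := by rw [polar_comm, hw]
  have a1 : ∀ x, polar q u x = 0 → g.1 x = (H12.eich q u w).1 x := by
    intro x hx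
    have hx' : polar q x u = 0 := by rw [polar_comm, hx]
    have e := H12.O.map_B g x y
    rw [H12.eich_apply_of_orth_left hu hw hx']
    rcases h1 x hx with a | a <;> rcases h2 with b | b <;> rw [a, b] at e <;> rw [a] <;>
      simp only [polar_add_left, polar_add_right, hx', hy, hw, uu, add_zero] at e
    · rw [show polar q x w = 0 by simpa using e, zero_smul, add_zero]
    · rw [show polar q x w = 0 by simpa using e, zero_smul, add_zero]
    · rw [show polar q x w = 1 by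
        revert e; generalize polar q x y = a, polar q x w = b; revert a b; decide, one_smul]
    · rw [show polar q x w = 1 by
        revert e; generalize polar q x y = a, polar q x w = b; revert a b; decide, one_smul]
  have a2 : g.1 y = (H12.eich q u w).1 y := by
    have e := H12.O.map_Q g y
    rw [H12.eich_apply hu hw, hy', one_smul, mul_one, sub_eq_add_neg, sub_eq_add_neg,
      ZModModule.neg_eq_self, ZModModule.neg_eq_self, add_right_comm y, add_assoc (y + w),
      ← add_smul]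
    rcases h2 with b | b <;> rw [b] at e ⊢ <;>
      simp only [H12.Q_add, polar_add_left, hy', hw', hu, add_zero] at e
    · rw [show polar q y w + q w = 0 by
        revert e; generalize q y = a, q w = b, polar q y w = c; revert a b c; decide,
        zero_smul, add_zero]
    · rw [show polar q y w + q w = 1 by
        revert e; generalize q y = a, q w = b, polar q y w = c; revert a b c; decide, one_smul]
  refine H12.O.ext fun x => ?_
  rcases zmod2_eq (polar q u x) with h | h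
  · exact a1 x h
  · have := a1 (x - y) (by rw [polar_sub_right, h, hy, sub_self])
    rwa [map_sub, map_sub, a2, sub_left_inj] at this

variable {G : Type*} [Group G]

open Classical in
/-- The indicator of the elements other than `1` that are not conjugate to `z`. -/
noncomputable def qq (z a : G) : ZMod 2 := if a = 1 ∨ IsConj z a then 0 else 1

theorem qq_eq_zero {z a : G} : qq z a = 0 ↔ a = 1 ∨ IsConj z a := by
  unfold qq
  split_ifs with h
  · exact iff_of_true rfl h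
  · exact iff_of_false one_ne_zero h

theorem qq_eq_one {z a : G} : qq z a = 1 ↔ ¬ (a = 1 ∨ IsConj z a) := by
  rw [← qq_eq_zero]
  generalize qq z a = b
  revert b; decide

theorem qq_one (z : G) : qq z 1 = 0 := qq_eq_zero.2 (Or.inl rfl)

theorem qq_self (z : G) : qq z z = 0 := qq_eq_zero.2 (Or.inr (IsConj.refl z))

theorem qq_conj (z n a : G) : qq z (n * a * n⁻¹) = qq z a := by
  have : qq z (n * a * n⁻¹) = 0 ↔ qq z a = 0 := by
    rw [qq_eq_zero, qq_eq_zero, conj_eq_one_iff]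
    exact or_congr Iff.rfl ⟨fun h => h.trans (isConj_of_conj rfl).symm,
      fun h => h.trans (isConj_of_conj rfl)⟩
  revert this
  generalize qq z (n * a * n⁻¹) = b, qq z a = c
  revert b c; decide

variable {z s : G} {Q Q' : Subgroup G} {φ : centralizer ({z} : Set G) →* Spor.Co1}
  {cls : leechLattice → G → Prop}

theorem qq_mul_z (h : ES Q z) {a : G} (ha : a ∈ Q) : qq z (a * z) = qq z a := by
  by_cases h1 : a = 1
  · rw [h1, one_mul, qq_one, qq_self]
  by_cases h2 : a = z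
  · rw [h2, h.sq, qq_one, qq_self]
  obtain ⟨u, -, e⟩ := h.exists_conj ha h1 h2
  rw [← e, qq_conj]

namespace St

variable [Finite G] (S : St z s Q Q' φ cls)
include S

theorem qq_32 {v : leechLattice} {x : G} (hx : cls v x) (hv : sqNorm (v : GolayPt → ℤ) = 32) :
    qq z x = 1 := qq_eq_one.2 fun h => h.elim
  (fun e => Mon.not_cg_zero (Or.inl hv) ((S.M.cg_zero_iff hx).2 (Or.inl e)))
  fun e => by have := (S.isConj_iff hx (Or.inl hv)).1 e; omega

theorem qq_64 {v : leechLattice} {x : G} (hx : cls v x) (hv : sqNorm (v : GolayPt → ℤ) = 64) :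
    qq z x = 0 := qq_eq_zero.2 (Or.inr ((S.isConj_iff hx (Or.inr hv)).2 hv))

variable {O : Finset GolayPt} (hO : O ∈ octads)

theorem qq_mul_z_out {a : G} (ha : a ∈ AA S.M hO.1) (h : a ∉ Q) : qq z (a * z) + qq z a = 1 := by
  obtain ⟨-, -, -, -, y, -, hy, h1, -, h2, h3, -, -⟩ := S.exists_y hO
  have e1 : qq z y = 1 := qq_eq_one.2 fun e => e.elim (fun f => h1 (f ▸ one_mem _)) h2
  have e2 : qq z (y * z) = 0 := qq_eq_zero.2 (Or.inr h3)
  obtain ⟨u, hu, e⟩ := S.exists_conj_out hO hy ha h1 h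
  have e3 : u * (y * z) * u⁻¹ = u * y * u⁻¹ * z := by
    rw [mul_assoc (u * y), S.M.h.central _ (inv_mem hu)]; group
  rw [← qq_conj z u] at e1 e2
  rw [e3] at e2
  rcases e with e | e <;> rw [e] at e1 e2
  · rw [e1, e2, zero_add]
  · rw [mul_assoc, S.M.h.sq, mul_one] at e2
    rw [e1, e2, add_zero]

theorem mem_Q_iff {a : G} (ha : a ∈ AA S.M hO.1) : a ∈ Q ↔ qq z (a * z) = qq z a := by
  refine ⟨qq_mul_z S.M.h.toES, fun h => by_contra fun hn => ?_⟩
  have := S.qq_mul_z_out hO ha hn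
  rw [h, CharTwo.add_self_eq_zero] at this
  exact zero_ne_one this

theorem qq_cubic {a x y : G} (ha : a ∈ AA S.M hO.1) (hx : x ∈ AA S.M hO.1) (hy : y ∈ AA S.M hO.1) :
    qq z (x * y * a) + qq z (x * y) + qq z a =
      (qq z (x * a) + qq z x + qq z a) + (qq z (y * a) + qq z y + qq z a) := by
  let B : Subgroup G :=
    { carrier := {a | a ∈ AA S.M hO.1 ∧ ∀ x ∈ AA S.M hO.1, ∀ y ∈ AA S.M hO.1,
        qq z (x * y * a) + qq z (x * y) + qq z a =
          (qq z (x * a) + qq z x + qq z a) + (qq z (y * a) + qq z y + qq z a)}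
      one_mem' := ⟨one_mem _, fun x _ y _ => by
        simp only [mul_one, qq_one, CharTwo.add_self_eq_zero, add_zero]⟩
      mul_mem' := by
        rintro a b ⟨ha, h1⟩ ⟨hb, h2⟩
        refine ⟨mul_mem ha hb, fun x hx y hy => ?_⟩
        have e1 := h1 x hx y hy
        have e2 := h2 x hx y hy
        have e3 := h2 x hx a ha
        have e4 := h2 y hy a ha
        have e5 := h2 _ (mul_mem hx hy) a ha
        simp only [← mul_assoc]
        have key : ∀ a1 a2 a3 a4 a5 a6 a7 a8 a9 b1 b2 b3 b4 b5 b6 : ZMod 2,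
            a1 + a2 + a3 = (a4 + a5 + a3) + (a6 + a7 + a3) →
            a8 + a2 + a9 = (b1 + a5 + a9) + (b2 + a7 + a9) →
            b3 + a4 + a9 = (b1 + a5 + a9) + (b4 + a3 + a9) →
            b5 + a6 + a9 = (b2 + a7 + a9) + (b4 + a3 + a9) →
            b6 + a1 + a9 = (a8 + a2 + a9) + (b4 + a3 + a9) →
            b6 + a2 + b4 = (b3 + a5 + b4) + (b5 + a7 + b4) := by
          intro a1 a2 a3 a4 a5 a6 a7 a8 a9 b1 b2 b3 b4 b5 b6 h1 h2 h3 h4 h5
          linear_combination (exp := 1) h1 + h2 + h3 + h4 + h5 +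
            (-a1 + a5 + a7 + 2 * a3 + b1 + b2 + 2 * a9 - b3 - b5 + b4) *
              (CharTwo.two_eq_zero (R := ZMod 2))
        exact key _ _ _ _ _ _ _ _ _ _ _ _ _ _ _ e1 e2 e3 e4 e5
      inv_mem' := fun {a} h => by rwa [inv_eq_of_mul_eq_one_right (S.sq_AA hO h.1)] }
  refine (S.AA_le_of_inv hO (B := B) ⟨z_mem_AA _ _, fun x hx y hy => ?_⟩ ?_ ha).2 x hx y hy
  · rw [qq_self]
    by_cases h1 : x ∈ Q <;> by_cases h2 : y ∈ Q
    · simp only [qq_mul_z S.M.h.toES, h1, h2, mul_mem, CharTwo.add_self_eq_zero, add_zero]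
    · rw [qq_mul_z S.M.h.toES h1, S.qq_mul_z_out hO hy h2, S.qq_mul_z_out hO (mul_mem hx hy)
        fun e => h2 (by simpa using mul_mem (inv_mem h1) e), CharTwo.add_self_eq_zero]; rfl
    · rw [qq_mul_z S.M.h.toES h2, S.qq_mul_z_out hO hx h1, S.qq_mul_z_out hO (mul_mem hx hy)
        fun e => h1 (by simpa using mul_mem e (inv_mem h2)), CharTwo.add_self_eq_zero]; rfl
    · have h3 : x * y ∈ Q := (S.M.ker (⟨_, AA_le _ _ hx⟩ * ⟨y, AA_le _ _ hy⟩)).1 (by
        rw [map_mul, ← (S.AA_cases hO hx).resolve_left h1, ← (S.AA_cases hO hy).resolve_left h2,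
          ← QuotientGroup.mk_mul, eps_mul_self]; rfl)
      rw [qq_mul_z S.M.h.toES h3, S.qq_mul_z_out hO hx h1, S.qq_mul_z_out hO hy h2,
        CharTwo.add_self_eq_zero]; rfl
  · rintro n hn a ⟨ha, h⟩
    refine ⟨conj_mem_of_normalizer hn ha, fun x hx y hy => ?_⟩
    have := h _ (conj_mem_of_normalizer' hn hx) _ (conj_mem_of_normalizer' hn hy)
    have k : ∀ w, qq z (n⁻¹ * w * n) = qq z w := fun w => by simpa using qq_conj z n⁻¹ w
    have k' : ∀ w, qq z (n⁻¹ * w * n * a) = qq z (w * (n * a * n⁻¹)) := fun w => by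
      rw [← k (w * _)]; congr 1; group
    rwa [show n⁻¹ * x * n * (n⁻¹ * y * n) = n⁻¹ * (x * y) * n by group, k', k', k', k, k, k,
      ← qq_conj z n a] at this

theorem exists_form : ∃ e ρ, Co (AA S.M hO.1) 10 e ρ ∧
    ∃ q : QuadraticForm (ZMod 2) (Fin 10 → ZMod 2), ∀ v, q v = qq z (e v) := by
  obtain ⟨e, ρ, C⟩ := exists_co (fun _ ha _ hb => S.comm_AA hO ha hb) (fun _ => S.sq_AA hO)
    (S.card_AA hO)
  refine ⟨e, ρ, C, ofPolar (fun v => qq z (e v)) (fun a x => ?_) (fun x y a => ?_)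
    (fun a x y => ?_), fun _ => rfl⟩
  · rcases zmod2_eq a with rfl | rfl <;> simp [C.zero, qq_one]
  · simpa only [polar, C.add, CharTwo.sub_eq_add] using S.qq_cubic hO (C.mem a) (C.mem x) (C.mem y)
  · rcases zmod2_eq a with rfl | rfl <;> simp [polar, C.zero, qq_one]

section

variable {e : (Fin 10 → ZMod 2) → G}
  {ρ : normalizer (AA S.M hO.1 : Set G) →* ((Fin 10 → ZMod 2) ≃ₗ[ZMod 2] (Fin 10 → ZMod 2))}
  (C : Co (AA S.M hO.1) 10 e ρ) {q : QuadraticForm (ZMod 2) (Fin 10 → ZMod 2)}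
  (hq : ∀ v, q v = qq z (e v))
include C hq

theorem polar_eq (u v : Fin 10 → ZMod 2) :
    polar q u v = qq z (e u * e v) + qq z (e u) + qq z (e v) := by
  simp only [polar, hq, C.add, CharTwo.sub_eq_add]

theorem polar_z {u : Fin 10 → ZMod 2} (hu : e u = z) (v : Fin 10 → ZMod 2) :
    polar q u v = 0 ↔ e v ∈ Q := by
  rw [polar_comm, S.polar_eq hO C hq, hu, qq_self, add_zero, S.mem_Q_iff hO (C.mem v)]
  exact CharTwo.add_eq_zero

theorem mem_O (n : normalizer (AA S.M hO.1 : Set G)) : ρ n ∈ H12.O q := fun v => by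
  rw [hq, hq, C.act, qq_conj]

theorem nondeg : H12.Nondeg q := by
  obtain ⟨u, hu⟩ := C.surj z (z_mem_AA _ _)
  obtain ⟨-, -, -, -, y, -, hy, h1, -⟩ := S.exists_y hO
  obtain ⟨y, rfl⟩ := C.surj y hy
  have h2 : ¬ ∀ w, polar q u w = 0 := fun h => h1 ((S.polar_z hO C hq hu y).1 (h y))
  intro v hv
  have h3 := (S.polar_z hO C hq hu v).1 (by rw [polar_comm, hv])
  by_contra h4
  obtain ⟨x, hx, ex⟩ := S.M.h.exists_conj h3 (fun f => h4 (C.eq_one.1 f))
    fun f => h2 (C.inj (f.trans hu.symm) ▸ hv)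
  have h5 : ρ ⟨x, Q_le_norm _ _ hx⟩ v = v + u := C.inj (by rw [C.act, C.add, hu]; exact ex)
  refine h2 fun w => ?_
  have := H12.O.B_apply_left ⟨_, S.mem_O hO C hq ⟨x, Q_le_norm _ _ hx⟩⟩ v w
  simp only [h5] at this
  rwa [polar_add_left, hv, hv, zero_add] at this

theorem eich_z {u : Fin 10 → ZMod 2} (hu : e u = z) {w : Fin 10 → ZMod 2} (hw : polar q u w = 0) :
    ∃ x, ∃ hx : x ∈ Q, H12.eich q u w = ⟨_, S.mem_O hO C hq ⟨x, Q_le_norm _ _ hx⟩⟩ := by
  obtain ⟨-, -, -, -, y, -, hy, h1, -⟩ := S.exists_y hO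
  obtain ⟨y, rfl⟩ := C.surj y hy
  have h2 : polar q u y = 1 := (zmod2_eq _).resolve_left fun h => h1 ((S.polar_z hO C hq hu y).1 h)
  obtain ⟨x, hx, ex⟩ := S.exists_conj_out hO hy (C.mem (y + w)) h1 fun h => by
    have := (S.polar_z hO C hq hu _).2 h
    rw [polar_add_right, h2, hw, add_zero] at this
    exact one_ne_zero this
  refine ⟨x, hx, (eq_eich (by rw [hq, hu, qq_self]) h2 hw (fun v hv => ?_) ?_).symm⟩
  · refine (S.M.h.conj ((S.polar_z hO C hq hu v).1 hv) hx).imp (fun f => C.inj ?_) fun f => C.inj ?_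
    · exact (C.act _ _).trans f
    · rw [C.add, hu]; exact (C.act _ _).trans f
  · refine ex.imp (fun f => C.inj ?_) fun f => C.inj ?_
    · exact (C.act _ _).trans f
    · rw [C.add, hu]; exact (C.act _ _).trans f

theorem exists_hyp : ∃ u f, e u = z ∧ H12.IsHyp q u f ∧
    (∀ w ∈ H12.perp q u f, H12.eich q u w ∈ (ρ.codRestrict _ (S.mem_O hO C hq)).range) ∧
    ∀ w ∈ H12.perp q u f, H12.eich q f w ∈ (ρ.codRestrict _ (S.mem_O hO C hq)).range := by
  obtain ⟨u, hu⟩ := C.surj z (z_mem_AA _ _)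
  have h0 : q u = 0 := by rw [hq, hu, qq_self]
  have h1 : ∀ w, polar q u w = 0 → H12.eich q u w ∈ (ρ.codRestrict _ (S.mem_O hO C hq)).range :=
    fun w hw => by
      obtain ⟨x, hx, ex⟩ := S.eich_z hO C hq hu hw
      exact ⟨_, ex.symm⟩
  obtain ⟨n, hn, h2⟩ : ∃ n ∈ normalizer (AA S.M hO.1 : Set G), n * z * n⁻¹ ∉ Q := by
    by_contra h
    push Not at h
    obtain ⟨-, -, -, -, y, -, hy, h1, -⟩ := S.exists_y hO
    let B : Subgroup G :=
      { carrier := {a | ∀ n ∈ normalizer (AA S.M hO.1 : Set G), n * a * n⁻¹ ∈ Q}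
        one_mem' := fun n _ => by simp
        mul_mem' := fun {a b} ha hb n hn => by simpa [mul_assoc] using mul_mem (ha n hn) (hb n hn)
        inv_mem' := fun {a} ha n hn => by simpa [mul_assoc] using inv_mem (ha n hn) }
    have := S.AA_le_of_inv hO (B := B) h (fun m hm b hb n hn => by
      simpa [mul_assoc] using hb _ (mul_mem hn hm)) hy 1 (one_mem _)
    exact h1 (by simpa using this)
  let g : H12.O q := ⟨_, S.mem_O hO C hq ⟨n, hn⟩⟩
  refine ⟨u, g.1 u, hu, ⟨h0, (H12.O.map_Q g u).trans h0, (zmod2_eq _).resolve_left fun h => h2 ?_⟩,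
    fun w hw => h1 w hw.1, fun w hw => ?_⟩
  · have := (S.polar_z hO C hq hu _).1 h
    rwa [C.act, hu] at this
  · rw [← H12.O.apply_inv_apply g w, ← H12.eich_conj]
    exact mul_mem (mul_mem ⟨⟨n, hn⟩, rfl⟩ (h1 _ (by rw [← H12.O.B_apply_left]; exact hw.2)))
      (inv_mem ⟨⟨n, hn⟩, rfl⟩)

theorem Om_le : H12.Om q ≤ (ρ.codRestrict _ (S.mem_O hO C hq)).range := by
  obtain ⟨u, f, -, h, h1, h2⟩ := S.exists_hyp hO C hq
  exact h.Om_le (S.nondeg hO C hq) (H12.good_of_finrank_ne (S.nondeg hO C hq) (by simp)) (by simp)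
    h1 h2

end

/-- The normalizer is transitive on the conjugates of `z` in the ark. -/
theorem trans_AA {a : G} (ha : a ∈ AA S.M hO.1) (hc : IsConj z a) :
    ∃ n ∈ normalizer (AA S.M hO.1 : Set G), n * z * n⁻¹ = a := by
  obtain ⟨e, ρ, C, q, hq⟩ := S.exists_form hO
  obtain ⟨u, f, hu, h, h1, h2⟩ := S.exists_hyp hO C hq
  obtain ⟨v, rfl⟩ := C.surj a ha
  obtain ⟨_, ⟨n, rfl⟩, c, hc0, ec⟩ := (h.ptRel_of_eich (S.nondeg hO C hq) (by simp) h1 h2 (u := v)
    (fun f => S.M.h.ne_one (by rw [f, C.zero] at hc; exact isConj_one_left.1 hc))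
    (by rw [hq]; exact qq_eq_zero.2 (Or.inr hc))).symm
  rw [(zmod2_eq c).resolve_left hc0, one_smul] at ec
  exact ⟨n, n.2, by have := C.act n u; rw [hu] at this; exact this.symm.trans (congrArg e ec)⟩

theorem conj_Q_norm {g : G} (hg : g * z * g⁻¹ ∈ AA S.M hO.1) {x : G} (hx : x ∈ Q) :
    g * x * g⁻¹ ∈ normalizer (AA S.M hO.1 : Set G) := by
  obtain ⟨n, hn, e⟩ := S.trans_AA hO hg (isConj_of_conj rfl)
  have h1 : n⁻¹ * g * z = z * (n⁻¹ * g) := by
    calc _ = n⁻¹ * (g * z * g⁻¹) * g := by group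
      _ = _ := by rw [← e]; group
  have := mul_mem (mul_mem hn (Q_le_norm _ _ (conj_mem_of_normalizer (S.M.h.norm _ h1) hx)))
    (inv_mem hn)
  simpa [mul_assoc] using this

theorem mem_conjQ_iff {g : G} (hg : g * z * g⁻¹ ∈ AA S.M hO.1) {b : G} (hb : b ∈ AA S.M hO.1) :
    g⁻¹ * b * g ∈ Q ↔ qq z (b * (g * z * g⁻¹)) = qq z b := by
  obtain ⟨n, hn, e⟩ := S.trans_AA hO hg (isConj_of_conj rfl)
  have h1 : n⁻¹ * g * z = z * (n⁻¹ * g) := by
    calc _ = n⁻¹ * (g * z * g⁻¹) * g := by group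
      _ = _ := by rw [← e]; group
  have h2 := S.mem_Q_iff hO (conj_mem_of_normalizer' hn hb)
  rw [← qq_conj z n, ← qq_conj z n (n⁻¹ * b * n), show n * (n⁻¹ * b * n * z) * n⁻¹ =
    b * (n * z * n⁻¹) by group, show n * (n⁻¹ * b * n) * n⁻¹ = b by group, e] at h2
  rw [← h2]
  exact ⟨fun h => by simpa [mul_assoc] using conj_mem_of_normalizer (S.M.h.norm _ h1) h,
    fun h => by simpa [mul_assoc] using conj_mem_of_normalizer' (S.M.h.norm _ h1) h⟩

end St

end H7.ML
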