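import Mathlib
import Cfsg.Agent.Lib.MonLoc.Lat
import Cfsg.Agent.Lib.Golay.Mathieu

/-!
A trio, three sextets refining it, and the classes of the Leech lattice modulo two attached to them.
-/

set_option autoImplicit false
set_option exponentiation.threshold 700

namespace H7.ML

open Cfsg Subgroup H95 H16
open scoped symmDiff Pointwise

/-- four times the indicator of an even set -/
def lv4 (T : Finset GolayPt) (h : 2 ∣ T.card) : leechLattice :=
  ⟨fun i => 4 * ind T i, mem_leech_of_four_dvd (fun _ => Dvd.intro _ rfl)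
    (by rw [← Finset.mul_sum, sum_ind]; omega)⟩

theorem lv4_apply (T : Finset GolayPt) (h : 2 ∣ T.card) (i : GolayPt) :
    (lv4 T h : GolayPt → ℤ) i = if i ∈ T then 4 else 0 := by
  change 4 * ind T i = _
  rw [ind_apply]
  split_ifs <;> rfl

theorem sqNorm_lv4 (T : Finset GolayPt) (h : 2 ∣ T.card) :
    sqNorm (lv4 T h : GolayPt → ℤ) = 16 * T.card := by
  rw [sqNorm_def, ← sum_ind, Finset.mul_sum]
  refine Finset.sum_congr rfl fun i _ => ?_
  rw [lv4_apply, ind_apply]
  split_ifs <;> rfl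

theorem dot_lv4_lrep (T : Finset GolayPt) (h : 2 ∣ T.card) (c : Finset GolayPt) (hc : c ∈ code) :
    dotInt (lv4 T h : GolayPt → ℤ) (lrep c hc) = 8 * (T ∩ c).card := by
  rw [dotInt_def, ← sum_ind_mul_ind, Finset.mul_sum]
  refine Finset.sum_congr rfl fun i _ => ?_
  rw [lv4_apply, lrep_apply, ind_apply, ind_apply]
  split_ifs <;> rfl

theorem dot_e8 (j : GolayPt) (v : GolayPt → ℤ) : dotInt (e8 j : GolayPt → ℤ) v = 8 * v j := by
  rw [dotInt_def, Finset.sum_eq_single j (fun i _ hi => by rw [e8_apply, if_neg hi, zero_mul])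
    (by simp), e8_apply, if_pos rfl]

theorem sup_lv4 {O T : Finset GolayPt} (h : 2 ∣ T.card) (hT : T ⊆ O) : Sup O (lv4 T h) :=
  fun k hk => by rw [lv4_apply, if_neg fun e => hk (hT e)]

theorem cong_of_two (u : leechLattice) {c : Finset GolayPt}
    (h : ∀ i, (4 : ℤ) ∣ (u : GolayPt → ℤ) i - 2 * ind c i) : c ∈ code ∧ Cong u 0 c := by
  rcases (mem_leech_iff' _).1 u.2 with ⟨d, hd, e⟩ | ⟨d, hd, e⟩
  · obtain rfl : d = c := e.unique ⟨fun i => by simpa using h i, e.2⟩
    exact ⟨hd, e⟩
  · have h1 := e.1 none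
    have h2 := h none
    omega

theorem cg_lv4 {T T' : Finset GolayPt} (h : T.card = 4) (h' : T'.card = 4) (hc : T ∆ T' ∈ code) :
    Cg (lv4 T (by omega)) (lv4 T' (by omega)) := by
  have h1 := H15.card_symmDiff_add T' T
  have h2 := H15.four_dvd_card_of_mem_codeSets hc
  have h3 := Finset.card_sdiff_add_card_inter T' T
  rw [symmDiff_comm] at h1
  refine cg_of_two (lrep _ hc - lv4 (T' \ T) (by omega)).2 fun i => ?_
  simp only [AddSubgroup.coe_sub, Pi.sub_apply, lv4_apply, lrep_apply, Finset.mem_symmDiff,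
    Finset.mem_sdiff]
  by_cases a : i ∈ T <;> by_cases b : i ∈ T' <;> simp [a, b]

theorem eps_lv4_iff {T d : Finset GolayPt} (h : 2 ∣ T.card) (hd : d ∈ code) :
    Cg (eps d hd • lv4 T h) (lv4 T h) ↔ 2 ∣ (d ∩ T).card := by
  have e : res d (lv4 T h) = fun i => 4 * ind (d ∩ T) i := funext fun i => by
    simp only [res_apply, lv4_apply, ind_apply, Finset.mem_inter]
    by_cases a : i ∈ T <;> by_cases b : i ∈ d <;> simp [a, b]
  rw [fix_iff, e]
  refine ⟨fun h1 => ?_, fun h1 => (lv4 _ h1).2⟩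
  have := (cong_of_two ⟨_, h1⟩ (c := ∅) fun i => by simp [ind_of_notMem]).2.2
  simp only [← Finset.mul_sum, sum_ind] at this
  omega

theorem mono_lv4_iff {σ : Equiv.Perm GolayPt} (hσ : σ ∈ M24) {d : Finset GolayPt} (hd : d ∈ code)
    {T : Finset GolayPt} (h : T.card = 4) :
    Cg (mono σ hσ d hd • lv4 T (by omega)) (lv4 T (by omega)) ↔
      (σ • T) ∆ T ∈ code ∧ 2 ∣ (d ∩ T).card := by
  have h' : (σ • T).card = 4 := by rw [H15.card_smul, h]
  have e : permHom ⟨σ, hσ⟩ • lv4 T (by omega) = lv4 (σ • T) (by omega) :=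
    Subtype.ext (funext fun i => by
      rw [permHom_smul_apply', lv4_apply, lv4_apply]; simp only [H15.mem_smul_finset_iff])
  rw [mono_eq_eps_mul, mul_smul, e, ← eps_lv4_iff (by omega) hd]
  refine ⟨fun h1 => ?_, fun h1 => ((cg_lv4 h' h h1.1).smul _).trans h1.2⟩
  obtain ⟨u, hu⟩ := exists_of_cg h1
  have h2 := (cong_of_two u (c := (σ • T) ∆ T) fun i => by
    have := hu i
    simp only [eps_smul_apply, lv4_apply] at this
    simp only [ind_apply, Finset.mem_symmDiff]
    by_cases a : i ∈ T <;> by_cases b : i ∈ σ • T <;> by_cases c : i ∈ d <;>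
      simp only [a, b, c, if_true, if_false, not_true, not_false_iff, and_true, and_false, or_true,
        true_or, or_false] at this ⊢ <;> omega).1
  exact ⟨h2, ((cg_lv4 h' h h2).smul _).symm.trans h1⟩

/-- the masks of the three octads of the trio -/
def oc : Fin 3 → ℕ := ![8536111, 6889680, 1351424]

/-- the masks of tetrads: column `k` lies in one sextet, row `i` in the octad `i` -/
def te : Fin 3 → Fin 3 → ℕ :=
  ![![8388615, 8388652, 8405001], ![2621632, 589968, 2695168], ![268544, 38144, 7680]]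

/-- the octads of the trio -/
def OC (i : Fin 3) : Finset GolayPt := H15.ofMask (oc i)

/-- three tetrads in the first octad -/
def TE (k : Fin 3) : Finset GolayPt := H15.ofMask (te 0 k)

theorem hOC (i : Fin 3) : OC i ∈ octads := H15.ofMask_mem_octads (by revert i; decide +kernel)

theorem card_TE (k : Fin 3) : (TE k).card = 4 := by
  rw [TE, H15.card_ofMask]; revert k; decide +kernel

/-- the class vectors of the three sextets -/
def lvT (k : Fin 3) : leechLattice := lv4 (TE k) (by rw [card_TE]; norm_num)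

theorem lvT_sup (i k : Fin 3) : ∃ w, Sup (OC i) w ∧ Cg (lvT k) w := by
  have h : (H15.ofMask (te i k)).card = 4 := by rw [H15.card_ofMask]; revert i k; decide +kernel
  refine ⟨_, sup_lv4 _ (H15.ofMask_subset_of_land ?_), cg_lv4 (card_TE k) h ?_⟩
  · revert i k; decide +kernel
  · rw [TE, ← H15.ofMask_xor]
    exact H15.ofMask_mem_of_isCode (by revert i k; decide +kernel)

theorem exists_test (j : Fin 3) : ∃ c ∈ code, ∀ k, 2 ∣ (TE k ∩ c).card ↔ k ≠ j := by
  refine ⟨H15.ofMask (![5279, 18147, 42232] j), H15.ofMask_mem_of_isCode ?_, fun k => ?_⟩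
  · revert j; decide +kernel
  · rw [TE, ← H15.ofMask_land, H15.card_ofMask]
    revert j k; decide +kernel

theorem OC_inj {i j : Fin 3} (h : OC i = OC j) : i = j := by
  have h1 : ∀ i, oc i < 2 ^ 24 := by decide
  have := H15.ofMask_inj (h1 i) (h1 j) h
  clear h
  revert i j; decide

theorem card_inter_OC {c : Finset GolayPt} (hc : c ∈ code) (h : ∀ i ∈ c, i ∈ OC 0 ∨ i ∈ OC 1) :
    c ∩ OC 0 = ∅ ∨ (c ∩ OC 0).card = 4 ∨ c ∩ OC 0 = OC 0 := by
  obtain ⟨u, hu, rfl⟩ := H15.exists_cw_of_mem_codeSets hc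
  have h1 : H15.allLt2 64 64 (fun u => !(Nat.beq (Nat.land (H15.cw u) (Nat.lor (oc 0) (oc 1)))
      (H15.cw u)) || Nat.beq (Nat.land (H15.cw u) (oc 0)) 0 ||
      Nat.beq (H15.wt (Nat.land (H15.cw u) (oc 0))) 4 ||
      Nat.beq (Nat.land (H15.cw u) (oc 0)) (oc 0)) = true := by decide +kernel
  have h2 := H15.allLt2_iff.1 h1 u hu
  have h3 := (H15.ofMask_subset_iff (b := Nat.lor (oc 0) (oc 1)) (H15.cw_lt hu)).1 (by
    rw [H15.ofMask_lor]; exact fun i hi => Finset.mem_union.2 (h i hi))
  simp only [h3, Nat.beq_refl, Bool.not_true, Bool.false_or, Bool.or_eq_true, Nat.beq_eq] at h2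
  rw [OC, ← H15.ofMask_land, H15.card_ofMask]
  rcases h2 with (e | e) | e
  · left; rw [e, H15.ofMask_zero]
  · exact Or.inr (Or.inl e)
  · right; right; rw [e]

theorem not_mem_OC1 : ∀ i ∈ OC 0, i ∉ OC 1 := by decide +kernel

/-- A class supported on two octads of the trio has no vector of type two. -/
theorem sing {v w w' : leechLattice} (hw : Sup (OC 0) w) (hw' : Sup (OC 1) w') (h : Cg w w')
    (hv : Cg v w) : sqNorm (v : GolayPt → ℤ) ≠ 32 := by
  obtain ⟨u, hu⟩ := exists_of_cg h
  have h0 : ∀ i, i ∉ OC 0 → i ∉ OC 1 → (u : GolayPt → ℤ) i = 0 := fun i a b => by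
    have := hu i
    rw [hw i a, hw' i b] at this
    omega
  obtain ⟨c, hc, e⟩ : ∃ c ∈ code, Cong u 0 c := by
    refine ((mem_leech_iff' _).1 u.2).resolve_right ?_
    rintro ⟨c, -, e⟩
    have := e.1 (H15.pt 8)
    rw [h0 _ (by decide +kernel) (by decide +kernel)] at this
    omega
  have h1 := card_inter_OC hc fun i hi => by_contra fun hn => by
    have := e.1 i
    rw [not_or] at hn
    rw [h0 i hn.1 hn.2, ind_of_mem hi] at this
    omega
  have h2 : 2 ∣ (c ∩ OC 0).card := (H15.even_card_inter hc (hOC 0).1).two_dvd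
  have h3 := cg_eight (v := w - lv4 _ h2) fun i => by
    have a := hu i
    have b := e.1 i
    rw [AddSubgroup.coe_sub, Pi.sub_apply, lv4_apply]
    rw [ind_apply] at b
    by_cases hi : i ∈ OC 0
    · rw [hw' i (not_mem_OC1 i hi)] at a
      simp only [Finset.mem_inter, hi, and_true]
      split_ifs at b ⊢ <;> omega
    · simp [hw i hi, hi]
  have h4 : ∀ j, Cg v (lv4 _ h2) ∨ Cg v (lv4 _ h2 - e8 j) := fun j => (h3 j).imp
    (fun a => hv.trans (by simpa using a.add (Cg.refl (lv4 _ h2))))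
    fun a => hv.trans (by
      simpa [sub_eq_neg_add] using (a.trans (cg_neg _)).add (Cg.refl (lv4 _ h2)))
  intro hn
  have k : Cg (lv4 _ h2) 0 → False := fun a => by
    rcases h4 none with b | b
    · exact Mon.not_cg_zero (Or.inl hn) (b.trans a).symm
    · have := Cg.norm_eq (w := e8 none) (b.trans (by
        simpa [sub_eq_add_neg] using a.add (cg_neg (e8 none)).symm)) (by omega) (sqNorm_e8 _).le
      rw [sqNorm_e8] at this
      omega
  rcases h1 with a | a | a
  · refine k ?_
    rw [show lv4 _ h2 = 0 from Subtype.ext (funext fun i => by simp [lv4_apply, a])]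
    exact Cg.refl _
  · obtain ⟨j, hj⟩ := Finset.card_pos.1 (show 0 < (c ∩ OC 0).card by omega)
    have n1 : sqNorm (lv4 _ h2 : GolayPt → ℤ) = 64 := by rw [sqNorm_lv4, a]; rfl
    have n2 : sqNorm ((lv4 _ h2 - e8 j : leechLattice) : GolayPt → ℤ) = 64 := by
      rw [AddSubgroup.coe_sub, sqNorm_sub, n1, sqNorm_e8, dotInt_comm, dot_e8, lv4_apply, if_pos hj]
      rfl
    rcases h4 j with b | b
    · have := b.norm_eq (by omega) n1.le
      omega
    · have := b.norm_eq (by omega) n2.le
      omega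
  · refine k (cg_of_two (lrep _ (hOC 0).1).2 fun i => ?_)
    simp only [lv4_apply, lrep_apply, a, AddSubgroup.coe_zero, Pi.zero_apply]
    split_ifs <;> rfl

/-- The octads of the trio are characterised by the three sextets. -/
theorem mem_trio {O : Finset GolayPt} (hO : O ∈ octads)
    (h : ∀ c ∈ code, c ⊆ Oᶜ → ∀ k, 2 ∣ (TE k ∩ c).card) : ∃ i, O = OC i := by
  let L : List ℕ := [5279, 31554, 231532, 902657, 926128, 7357552, 11608708, 5286147, 7221256,
    9998658, 8654232, 10666625, 4850476, 8849458, 13121601, 5329044, 459847, 2372388, 3951624,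
    8683614, 5280930, 2640465, 8611330, 42232, 2738308, 12650793, 3297305, 9969957, 1710664,
    2135601, 4264387, 4597797, 5899416, 9929280, 4768432, 2168036, 2384216, 9045270, 1405448,
    2409888, 7345676, 4336072, 9310308, 1116327, 12325377, 267634, 567074, 615188, 675712, 2150610,
    45159, 3182981, 10558, 72588]
  have hL : ∀ c ∈ L, H15.isCode c = true ∧ ∃ k, ¬ 2 ∣ H15.wt (Nat.land (te 0 k) c) := by
    decide +kernel
  have h1 : H15.allLt2 64 64 (fun u => !(Nat.beq (H15.wt (H15.cw u)) 8) ||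
      Nat.beq (H15.cw u) (oc 0) || Nat.beq (H15.cw u) (oc 1) || Nat.beq (H15.cw u) (oc 2) ||
      L.any fun c => Nat.beq (Nat.land c (H15.cw u)) 0) = true := by decide +kernel
  obtain ⟨u, hu, rfl⟩ := H15.exists_cw_of_mem_codeSets hO.1
  have h2 := H15.allLt2_iff.1 h1 u hu
  have h3 := hO.2
  rw [H15.card_ofMask] at h3
  simp only [h3, Nat.beq_refl, Bool.not_true, Bool.false_or, Bool.or_eq_true, Nat.beq_eq,
    List.any_eq_true] at h2
  rcases h2 with ((e | e) | e) | ⟨c, hc, e⟩
  · exact ⟨0, congrArg _ e⟩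
  · exact ⟨1, congrArg _ e⟩
  · exact ⟨2, congrArg _ e⟩
  · obtain ⟨a, k, b⟩ := hL c hc
    refine absurd ?_ b
    rw [← H15.card_ofMask, H15.ofMask_land]
    refine h _ (H15.ofMask_mem_of_isCode a) (fun i hi => Finset.mem_compl.2 fun hj => ?_) k
    have := Finset.mem_inter.2 ⟨hi, hj⟩
    rw [← H15.ofMask_land, e, H15.ofMask_zero] at this
    exact Finset.notMem_empty _ this

theorem ncard_64 : {c | c ∈ code ∧ ∀ i ∈ OC 0, ∀ j ∈ OC 0, (i ∈ c ↔ j ∈ c)}.ncard = 64 := by
  rw [H15.ncard_codeSets_filter (fun m => Nat.beq (Nat.land (oc 0) m) 0 ||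
    Nat.beq (Nat.land (oc 0) m) (oc 0)) _ (fun u hu => ?_) fun _ h => h.1]
  · decide +kernel
  · simp only [Set.mem_ofPred_eq, Bool.or_eq_true, Nat.beq_eq]
    rw [← H15.ofMask_subset_iff (by decide)]
    refine ⟨fun h => ?_, fun h => ⟨H15.ofMask_cw_mem hu, fun i hi j hj => ?_⟩⟩
    · by_cases e : none ∈ H15.ofMask (H15.cw u)
      · exact Or.inr fun i hi => (h.2 i hi none (by decide +kernel)).2 e
      · refine Or.inl (H15.ofMask_inj (Nat.and_le_left.trans_lt (by decide)) (by decide) ?_)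
        rw [H15.ofMask_land, H15.ofMask_zero, Finset.eq_empty_iff_forall_notMem]
        exact fun i hi => e ((h.2 i (Finset.mem_inter.1 hi).1 none (by decide +kernel)).1
          (Finset.mem_inter.1 hi).2)
    · rcases h with e | e
      · have : ∀ i ∈ OC 0, i ∉ H15.ofMask (H15.cw u) := fun i hi hj => by
          have := Finset.mem_inter.2 ⟨hi, hj⟩
          rw [OC, ← H15.ofMask_land, e, H15.ofMask_zero] at this
          exact Finset.notMem_empty _ this
        exact iff_of_false (this i hi) (this j hj)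
      · exact iff_of_true (e hi) (e hj)

theorem ncard_512 : {c | c ∈ code ∧ ∀ k, 2 ∣ (c ∩ TE k).card}.ncard = 512 := by
  rw [H15.ncard_codeSets_filter (fun m => decide (∀ k, 2 ∣ H15.wt (Nat.land m (te 0 k)))) _
    (fun u hu => ?_) fun _ h => h.1]
  · decide +kernel
  · simp only [Set.mem_ofPred_eq, decide_eq_true_eq, ← H15.card_ofMask, H15.ofMask_land]
    exact ⟨fun h => h.2, fun h => ⟨H15.ofMask_cw_mem hu, h⟩⟩

/-- the permutations fixing the three octads and the three sextets -/
def JJ : Subgroup (Equiv.Perm GolayPt) where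
  carrier := {σ | σ ∈ M24 ∧ (∀ i, σ • OC i = OC i) ∧ ∀ k, (σ • TE k) ∆ TE k ∈ code}
  one_mem' := ⟨one_mem _, fun _ => one_smul _ _, fun k => by
    rw [one_smul, symmDiff_self]; exact empty_mem_code⟩
  mul_mem' := fun {a b} ha hb => ⟨mul_mem ha.1 hb.1, fun i => by rw [mul_smul, hb.2.1, ha.2.1],
    fun k => by
      have := symmDiff_mem_code (smul_mem_code ha.1 (hb.2.2 k)) (ha.2.2 k)
      rwa [H15.smul_symmDiff, symmDiff_assoc, symmDiff_symmDiff_cancel_left, ← mul_smul] at this⟩
  inv_mem' := fun {a} ha => ⟨inv_mem ha.1, fun i => by rw [inv_smul_eq_iff, ha.2.1], fun k => by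
    have := smul_mem_code (inv_mem ha.1) (ha.2.2 k)
    rwa [H15.smul_symmDiff, inv_smul_smul, symmDiff_comm] at this⟩

theorem good_te {c : ℕ} (h : H15.inM24 c = true)
    (h2 : ∀ k, H15.isCode (Nat.xor (H15.imgM c (te 0 k)) (te 0 k)) = true) (k : Fin 3) :
    (H15.permOf c • TE k) ∆ TE k ∈ code := by
  rw [TE, H15.permOf_smul (H15.okP_of_inM24 h), ← H15.ofMask_xor]
  exact H15.ofMask_mem_of_isCode (h2 k)

theorem card_JJ : Nat.card JJ = 64 := by
  have h := H15.chain_card (G := JJ) [(23, oc 0), (4, oc 1)] []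
    [[5989235823820259689967313196876887, 47513657792358304912259763912868578,
      130589144753000552782245960671270446], [961365507626256404119956257276790816,
      963721886883755259286232606933354528, 972512676110088067912772961567868960]]
    (fun L hL c hc => ?_) (by decide +kernel) ⟨fun g hg => ?_, fun g hg => ?_, ?_⟩
  · rw [H15.fixL_nil, inf_top_eq] at h
    exact h.trans (by decide +kernel)
  · have : H15.inM24 c = true ∧ (∀ i, H15.imgM c (oc i) = oc i) ∧
        ∀ k, H15.isCode (Nat.xor (H15.imgM c (te 0 k)) (te 0 k)) = true := by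
      revert c; revert L; decide +kernel
    exact ⟨H15.okP_of_inM24 this.1, H15.permOf_mem_M24 this.1, fun i => by
      rw [OC, H15.permOf_smul (H15.okP_of_inM24 this.1), this.2.1], good_te this.1 this.2.2⟩
  · exact (H15.apply_mem_of_smul_eq (hg.1.2.1 0)).2 (by decide +kernel)
  · exact (H15.apply_mem_of_smul_eq (hg.1.2.1 1)).2 (by decide +kernel)
  · refine eq_bot_iff.2 fun g hg => ?_
    have h1 := H15.mem_fixL.1 hg.2
    have hs : ∀ k, TE k ⊆ OC 0 := by decide +kernel
    have hi : ∀ k, H15.pt 23 ∈ TE k := by decide +kernel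
    have h2 : ∀ k, g • TE k = TE k := fun k => by
      rcases code_sub (hOC 0) (hg.1.2.2 k) (fun i hi => by
        rcases Finset.mem_symmDiff.1 hi with a | a
        · exact hg.1.2.1 0 ▸ (H15.smul_subset_smul_iff g _ _).2 (hs k) a.1
        · exact hs k a.1) with e | e
      · exact symmDiff_eq_bot.1 e
      · have := e.ge (hs k (hi k))
        rw [Finset.mem_symmDiff] at this
        have a := (H15.apply_mem_smul_iff g _ _).2 (hi k)
        rw [h1 23 (by simp)] at a
        simp [a, hi k] at this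
    have h3 : ∀ i ∈ OC 0, ∀ j ∈ OC 0, (∀ k, j ∈ TE k ↔ i ∈ TE k) → j = i := by decide +kernel
    exact H15.fixSet_octad_eq_one (hOC 0) (H15.mem_fixSet.2 ⟨hg.1.1, fun i hi => h3 i hi _
      ((H15.apply_mem_of_smul_eq (hg.1.2.1 0)).2 hi) fun k => H15.apply_mem_of_smul_eq (h2 k)⟩)
      (p := H15.pt 4) (by decide +kernel) (h1 4 (by simp))

theorem exists_swap : (∃ σ ∈ M24, (∀ k, (σ • TE k) ∆ TE k ∈ code) ∧ σ • OC 0 = OC 0 ∧
    σ • OC 1 = OC 2) ∧ ∃ σ ∈ M24, (∀ k, (σ • TE k) ∆ TE k ∈ code) ∧ σ • OC 1 = OC 1 ∧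
      σ • OC 0 = OC 2 := by
  have h1 : H15.inM24 967812279691448225500382947153381408 = true := by decide +kernel
  have h2 : H15.inM24 652485887393954026739852044434417972 = true := by decide +kernel
  refine ⟨⟨_, H15.permOf_mem_M24 h1, good_te h1 (by decide +kernel), ?_, ?_⟩,
    ⟨_, H15.permOf_mem_M24 h2, good_te h2 (by decide +kernel), ?_, ?_⟩⟩ <;>
  rw [OC, H15.permOf_smul (H15.okP_of_inM24 (by assumption))] <;>
  exact congrArg H15.ofMask (by decide +kernel)

theorem eqns_Tet : True := by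
  have := @lv4.eq_1
  have := @oc.eq_1
  have := @te.eq_1
  have := @OC.eq_1
  have := @TE.eq_1
  have := @lvT.eq_1
  have := @JJ.eq_1
  trivial

end H7.ML
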