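import Mathlib
import Cfsg.Agent.Lib.MonLoc.Four
import Cfsg.Agent.Lib.LargeExtra.Types
import Cfsg.Agent.Lib.Orth12.Simple
import Cfsg.Agent.Lib.Orth12.Forms
import Cfsg.Agent.Lib.QF.Classify

/-!
Small group-theoretic tools for the 2-local subgroups of groups of Monster type.
-/

set_option autoImplicit false

namespace H7.ML

open Cfsg Subgroup H95 H16 QuadraticMap

variable {G : Type*} [Group G]

/-- Duality in an extraspecial group. -/
theorem ES_dual {Q U : Subgroup G} {z : G} [Finite Q] (h : ES Q z) (hU : U ≤ Q) (hz : z ∈ U) :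
    Nat.card (Q ⊓ centralizer (U : Set G) : Subgroup G) * Nat.card U = 2 * Nat.card Q ∧
      ∀ w ∈ Q, (∀ q ∈ Q, q ∈ centralizer (U : Set G) → q * w = w * q) → w ∈ U := by
  obtain ⟨V, _, _, ⟨P⟩⟩ := h.top.exists_pres
  have := P.finite_space
  have nd := P.nondegenerate_of_ES h.top
  let W := P.image (U.subgroupOf Q)
  have h1 : ∀ x : Q, P.π x ∈ W ↔ (x : G) ∈ U := fun x => ⟨by
    rintro ⟨a, ha, e⟩
    rcases P.eq_iff'.1 e with e | e <;> rw [e]
    exacts [ha, mul_mem ha hz], fun hx => ⟨x, hx, rfl⟩⟩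
  have h2 : ∀ x : Q, P.π x ∈ LinearMap.BilinForm.orthogonal (polarBilin P.q) W ↔
      (x : G) ∈ centralizer (U : Set G) := fun x => ⟨fun hx u hu => congrArg Subtype.val
        ((P.commute_iff ⟨u, hU hu⟩ x).2 (hx _ ((h1 ⟨u, hU hu⟩).2 hu))), by
      rintro hx _ ⟨y, hy, rfl⟩
      exact (P.commute_iff y x).1 (Subtype.ext (hx _ hy))⟩
  constructor
  · have e1 := P.card_comap W
    have e2 := P.card_comap (LinearMap.BilinForm.orthogonal (polarBilin P.q) W)
    rw [show P.comap W = U.subgroupOf Q from Subgroup.ext h1,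
      Nat.card_congr (subgroupOfEquivOfLe hU).toEquiv] at e1
    rw [show P.comap (LinearMap.BilinForm.orthogonal (polarBilin P.q) W) =
      (Q ⊓ centralizer (U : Set G)).subgroupOf Q from
      Subgroup.ext fun x => (h2 x).trans ⟨fun a => ⟨x.2, a⟩, fun a => a.2⟩,
      Nat.card_congr (subgroupOfEquivOfLe inf_le_left).toEquiv,
      LinearMap.BilinForm.finrank_orthogonal nd] at e2
    have e3 := Submodule.finrank_le W
    rw [e1, e2, P.card_eq, Module.natCard_eq_pow_finrank (K := ZMod 2) (V := V), Nat.card_zmod,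
      ← pow_add, ← pow_succ', ← pow_succ']
    congr 1; omega
  · intro w hw hc
    rw [← h1 ⟨w, hw⟩, ← LinearMap.BilinForm.orthogonal_orthogonal nd H12.polarBilin_isRefl W]
    intro v hv
    obtain ⟨x, rfl⟩ := P.surj v
    exact (P.commute_iff x ⟨w, hw⟩).1 (Subtype.ext (hc _ x.2 ((h2 x).1 hv)))

/-- An element acting trivially on `U` modulo the centre acts as an element of `Q`. -/
theorem ES_inner {Q U : Subgroup G} {z c : G} [Finite Q] (h : ES Q z) (hU : U ≤ Q) (hz : z ∈ U)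
    (hc : c * z = z * c) (h1 : ∀ u ∈ U, c * u * c⁻¹ = u ∨ c * u * c⁻¹ = u * z) :
    ∃ q ∈ Q, q⁻¹ * c ∈ centralizer (U : Set G) := by
  by_cases h2 : c ∈ centralizer (U : Set G)
  · exact ⟨1, one_mem _, by simpa using h2⟩
  obtain ⟨w, hw, h3⟩ : ∃ w ∈ U, w * c ≠ c * w := by
    by_contra hn
    push Not at hn
    exact h2 hn
  obtain ⟨q, hq, h4, h5⟩ : ∃ q ∈ Q, q ∈ centralizer ((U ⊓ centralizer {c} : Subgroup G) : Set G) ∧
      q * w ≠ w * q := by
    by_contra hn
    push Not at hn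
    exact h3 (mem_cent_iff.1 ((ES_dual h (inf_le_left.trans hU) ⟨hz, mem_cent_iff.2 hc.symm⟩).2 w
      (hU hw) hn).2)
  have e1 := h.conj_of_ne (hU hw) hq h5
  have e2 := (h1 w hw).resolve_left fun e => h3 (mul_inv_eq_iff_eq_mul.1 e).symm
  have key : ∀ u, c * u * c⁻¹ = q * u * q⁻¹ → u * (q⁻¹ * c) = q⁻¹ * c * u := fun u e => by
    calc _ = q⁻¹ * (q * u * q⁻¹) * c := by group
      _ = _ := by rw [← e]; group
  have k1 : ∀ u ∈ U, c * u * c⁻¹ = u → q * u * q⁻¹ = u := fun u hu e => by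
    rw [← h4 u ⟨hu, mem_cent_iff.2 (mul_inv_eq_iff_eq_mul.1 e).symm⟩, mul_inv_cancel_right]
  refine ⟨q, hq, fun u hu => key u ?_⟩
  rcases h1 u hu with e | e
  · rw [e, k1 u hu e]
  · have e3 : c * (u * w) * c⁻¹ = u * w := by
      calc _ = c * u * c⁻¹ * (c * w * c⁻¹) := by group
        _ = u * (z * (w * z)) := by rw [e, e2]; group
        _ = _ := by rw [h.central w (hU hw), ← mul_assoc z, h.sq, one_mul]
    have e4 := k1 _ (mul_mem hu hw) e3
    rw [← e3, show c * (u * w) * c⁻¹ = c * u * c⁻¹ * (c * w * c⁻¹) by group,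
      show q * (c * u * c⁻¹ * (c * w * c⁻¹)) * q⁻¹ = q * (c * (u * w) * c⁻¹) * q⁻¹ by group, e3,
      show q * (u * w) * q⁻¹ = q * u * q⁻¹ * (q * w * q⁻¹) by group, e1, e2] at e4
    exact (mul_right_cancel e4).symm

theorem two_mul_card_le [Finite G] {H K : Subgroup G} (h : H ≤ K) {x : G} (hx : x ∈ K)
    (hn : x ∉ H) : 2 * Nat.card H ≤ Nat.card K := by
  obtain ⟨k, hk⟩ := card_dvd_of_le h
  have h1 : k ≠ 1 := fun e => hn (eq_of_le_of_card_ge h (by rw [hk, e, mul_one]) ▸ hx)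
  have h0 : k ≠ 0 := fun e => Nat.card_pos.ne' (by rw [hk, e, mul_zero])
  rw [hk, mul_comm]
  exact Nat.mul_le_mul_left _ (by omega)

/-- The order of a subgroup of the centralizer of `z` from its image in the Conway group. -/
theorem card_imgN {z : G} {Q : Subgroup G} {φ : centralizer ({z} : Set G) →* Spor.Co1}
    {cls : leechLattice → G → Prop} (M : Mon z Q φ cls) {H : Subgroup G}
    (hH : H ≤ centralizer ({z} : Set G)) :
    2 * Nat.card H = Nat.card (Q ⊓ H : Subgroup G) * Nat.card (imgN φ H) := by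
  let f := φ.comp (inclusion hH)
  have h1 := card_eq_card_quotient_mul_card_subgroup f.ker
  rw [Nat.card_congr (QuotientGroup.quotientKerEquivRange f).toEquiv,
    show f.ker = (Q ⊓ H).subgroupOf H from Subgroup.ext fun x =>
      (M.ker _).trans ⟨fun a => ⟨a, x.2⟩, fun a => a.1⟩,
    Nat.card_congr (subgroupOfEquivOfLe inf_le_right).toEquiv] at h1
  have h2 := QuotientGroup.card_preimage_mk (center Co0) (f.range : Set Spor.Co1)
  rw [card_center] at h2
  have h3 : Nat.card (imgN φ H) = 2 * Nat.card f.range := by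
    refine Eq.trans ?_ h2
    refine Nat.card_congr (Equiv.subtypeEquivRight fun γ => mem_imgN.trans ⟨?_, ?_⟩)
    · rintro ⟨b, hb, e⟩
      exact ⟨⟨b, hb⟩, e.symm⟩
    · rintro ⟨b, e⟩
      exact ⟨⟨b, hH b.2⟩, b.2, e.symm⟩
  rw [h3, h1]; ring

/-- A group generated by elements that are involutions and commute modulo a central subgroup. -/
theorem mod_elem {C A : Subgroup G} {P : G → Prop} (hA : C ≤ centralizer (A : Set G))
    (hC : ∀ x, P x → x ∈ C) (ind : ∀ B : Subgroup G, (∀ x, P x → x ∈ B) → C ≤ B)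
    (hc : ∀ x, P x → ∀ y, P y → x * y * x⁻¹ * y⁻¹ ∈ A) (hs : ∀ x, P x → x * x ∈ A) :
    (∀ x ∈ C, ∀ y ∈ C, x * y * x⁻¹ * y⁻¹ ∈ A) ∧ ∀ x ∈ C, x * x ∈ A := by
  have hn : ∀ c ∈ C, ∀ a ∈ A, c * a * c⁻¹ ∈ A := fun c hc a ha => by
    rwa [← hA hc a ha, mul_inv_cancel_right]
  let K : G → Subgroup G := fun y =>
    { carrier := {x | x ∈ C ∧ x * y * x⁻¹ * y⁻¹ ∈ A}
      one_mem' := ⟨one_mem _, by simp⟩
      mul_mem' := fun {a b} ha hb => ⟨mul_mem ha.1 hb.1, by
        simpa [mul_assoc] using mul_mem (hn a ha.1 _ hb.2) ha.2⟩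
      inv_mem' := fun {a} ha => ⟨inv_mem ha.1, by
        simpa [mul_assoc] using hn _ (inv_mem ha.1) _ (inv_mem ha.2)⟩ }
  have h1 : ∀ y, P y → ∀ x ∈ C, x * y * x⁻¹ * y⁻¹ ∈ A := fun y hy x hx =>
    (ind (K y) (fun x hx => ⟨hC x hx, hc x hx y hy⟩) hx).2
  have h2 : ∀ x ∈ C, ∀ y ∈ C, x * y * x⁻¹ * y⁻¹ ∈ A := fun x hx y hy =>
    (ind (K y) (fun x hx => ⟨hC x hx, by
      simpa [mul_assoc] using inv_mem (h1 x hx y hy)⟩) hx).2
  refine ⟨h2, fun x hx => (ind
    { carrier := {x | x ∈ C ∧ x * x ∈ A}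
      one_mem' := ⟨one_mem _, by simp⟩
      mul_mem' := fun {a b} ha hb => ⟨mul_mem ha.1 hb.1, by
        simpa [mul_assoc] using mul_mem (mul_mem ha.2 (h2 _ (inv_mem ha.1) _ hb.1)) hb.2⟩
      inv_mem' := fun {a} ha => ⟨inv_mem ha.1, by simpa using inv_mem ha.2⟩ }
    (fun x hx => ⟨hC x hx, hs x hx⟩) hx).2⟩

/-- The action on a finite family of subgroups permuted by conjugation. -/
theorem exists_perm_hom {N : Subgroup G} {ι : Type*} (X : ι → Subgroup G)
    (hX : ∀ i j, X i ≤ X j → i = j) (h : ∀ n ∈ N, ∀ i, ∃ j, ∀ a ∈ X i, n * a * n⁻¹ ∈ X j) :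
    ∃ θ : N →* Equiv.Perm ι, ∀ n i j, θ n i = j ↔ ∀ a ∈ X i, n * a * (n : G)⁻¹ ∈ X j := by
  choose f hf using h
  have hu : ∀ n (hn : n ∈ N) i j, (∀ a ∈ X i, n * a * n⁻¹ ∈ X j) → f n hn i = j := by
    intro n hn i j e
    have a1 : ∀ k, (∀ a ∈ X i, n * a * n⁻¹ ∈ X k) → i = f _ (inv_mem hn) k := fun k e =>
      hX _ _ fun a ha => by simpa [mul_assoc] using hf _ (inv_mem hn) k _ (e a ha)
    have a2 : ∀ k, k = f n hn (f _ (inv_mem hn) k) := fun k =>
      hX _ _ fun a ha => by simpa [mul_assoc] using hf n hn _ _ (hf _ (inv_mem hn) k a ha)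
    rw [a2 j, ← a1 j e]
  refine ⟨MonoidHom.toHomPerm
    { toFun := fun n i => f n n.2 i
      map_one' := funext fun i => hu _ _ _ i fun a ha => by simpa using ha
      map_mul' := fun m n => funext fun i => hu _ _ _ (f m m.2 (f n n.2 i)) fun a ha => by
        simpa [mul_assoc] using hf m m.2 _ _ (hf n n.2 i a ha) }, fun n i j =>
    ⟨fun e => e ▸ hf n n.2 i, hu n n.2 i j⟩⟩

theorem pCore_Om {V : Type*} [AddCommGroup V] [Module (ZMod 2) V] [Finite V]
    {q : QuadraticForm (ZMod 2) V} (hq : H12.Nondeg q) {u f : V} (h : H12.IsHyp q u f)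
    (hn : Module.finrank (ZMod 2) V = 10) : pCore 2 (H12.Om q) = ⊥ := by
  have hG := H12.good_of_finrank_ne hq (by omega)
  have h1 := h.card_center_Om_of_not_mem hq hG (by omega)
    (Or.inr (H12.negO_eq_one_of_two_eq_zero rfl))
  have h2 := h.center_Om_ne_top hq hG (by omega)
  rcases H12.normal_Om_le_center_or_eq_top hq (by omega) (pCore 2 (H12.Om q)) with e | e
  · rwa [h1, le_bot_iff] at e
  · have : Nontrivial (H12.Om q) := by
      by_contra hn
      rw [not_nontrivial_iff_subsingleton] at hn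
      exact h2 (Subsingleton.elim _ _)
    have h3 : IsPGroup 2 (H12.Om q) := (e ▸ H1.isPGroup_pCore : IsPGroup 2 (⊤ : Subgroup _)).of_equiv
      topEquiv
    have : Finite (V ≃ₗ[ZMod 2] V) := Finite.of_injective (fun g : V ≃ₗ[ZMod 2] V => (g : V → V))
      DFunLike.coe_injective
    have := h3.center_nontrivial
    rw [h1] at this
    exact absurd this (not_nontrivial _)

theorem Om_equiv {V : Type*} [AddCommGroup V] [Module (ZMod 2) V] [Finite V]
    {q : QuadraticForm (ZMod 2) V} (hq : H12.Nondeg q) (hn : Module.finrank (ZMod 2) V = 2 * 5)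
    (U : Submodule (ZMod 2) V) (hU : ∀ u ∈ U, q u = 0) (hm : Module.finrank (ZMod 2) U = 5) :
    Nonempty (H12.Om q ≃* Omega (ZMod 2) (quadFormPlus 5 (ZMod 2))) := by
  obtain ⟨Φ, hΦ⟩ := H66.exists_equiv_plus_of_singular (H12.nondeg_iff.1 hq) hn U hU hm
  exact ⟨(H12.commCongr ((H12.plusIso (ZMod 2) 5).trans
    (H12.congrO Φ fun v => (hΦ v).trans (H12.QPlus_apply 5 v).symm))).symm⟩

end H7.ML
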