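import Mathlib
import Cfsg.Agent.Lib.MonLoc.Form
import Cfsg.Agent.Lib.MonLoc.Tools
import Cfsg.Agent.Lib.MonLoc.Tet

/-!
Groups of Monster type: the elementary abelian subgroup of order `2 ^ 5` attached to a trio.
-/

set_option autoImplicit false
set_option linter.unusedSectionVars false

namespace H7.ML

open Cfsg Subgroup H95 H16 QuadraticMap
open scoped symmDiff Pointwise

theorem eps_inj {O O' : Finset GolayPt} (hO : O ∈ octads) (hO' : O' ∈ octads)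
    (h : (QuotientGroup.mk (eps O hO.1) : Spor.Co1) = QuotientGroup.mk (eps O' hO'.1)) : O = O' := by
  rcases mk_eq_mk.1 h with e | e
  · exact (mono_inj e).2.symm
  · rw [negCo0, eps_mul_eps] at e
    have h1 := H15.card_symmDiff_add O Finset.univ
    rw [← (mono_inj e).2, hO'.2, Finset.inter_univ, hO.2, Finset.card_univ, card_pt] at h1
    omega

theorem mono_mul_eps {σ : Equiv.Perm GolayPt} (hσ : σ ∈ M24) {d : Finset GolayPt} (hd : d ∈ code)
    {O O' : Finset GolayPt} (hO : O ∈ code) (hO' : O' ∈ code) (h : σ • O = O') :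
    mono σ hσ d hd * eps O hO = eps O' hO' * mono σ hσ d hd := by
  subst h
  rw [mono_eq_eps_mul, mul_assoc, permHom_mul_eps, ← mul_assoc, ← mul_assoc, eps_comm]

variable {G : Type*} [Group G] {z s : G} {Q Q' : Subgroup G}
  {φ : centralizer ({z} : Set G) →* Spor.Co1} {cls : leechLattice → G → Prop}

/-- The intersection of the three subgroups attached to the octads of the trio. -/
def UU (M : Mon z Q φ cls) : Subgroup G := ⨅ i, AA M (hOC i).1

theorem mem_UU (M : Mon z Q φ cls) {x : G} : x ∈ UU M ↔ ∀ i, x ∈ AA M (hOC i).1 := mem_iInf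

theorem UU_le (M : Mon z Q φ cls) (i : Fin 3) : UU M ≤ AA M (hOC i).1 := iInf_le _ i

theorem z_mem_UU (M : Mon z Q φ cls) : z ∈ UU M := (mem_UU M).2 fun _ => z_mem_AA _ _

theorem mem_UU_of_cls [Finite G] (M : Mon z Q φ cls) {k : Fin 3} {x : G} (hx : cls (lvT k) x) :
    x ∈ UU M := (mem_UU M).2 fun i => by
  obtain ⟨w, h1, h2⟩ := lvT_sup i k
  exact mem_AA_of_sup M (hOC i) (M.congr hx h2) h1

namespace St

variable [Finite G] (S : St z s Q Q' φ cls)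
include S

theorem AA_inj {O O' : Finset GolayPt} (hO : O ∈ octads) (hO' : O' ∈ octads)
    (h : AA S.M hO.1 ≤ AA S.M hO'.1) : O = O' := by
  obtain ⟨-, -, -, -, y, -, hy, h1, -, -, -, h2, -⟩ := S.exists_y hO
  exact eps_inj hO hO' (h2.trans ((S.AA_cases hO' (h hy)).resolve_left h1).symm)

theorem s_mem_UU : s ∈ UU S.M := (mem_UU _).2 fun i => S.s_mem_AA (hOC i)

theorem UU_le_Q : UU S.M ≤ Q := fun x hx => by_contra fun h =>
  absurd (OC_inj (eps_inj (hOC 0) (hOC 1) (((S.AA_cases (hOC 0) (UU_le _ 0 hx)).resolve_left h).trans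
    ((S.AA_cases (hOC 1) (UU_le _ 1 hx)).resolve_left h).symm))) (by decide)

theorem qq_UU {x : G} (hx : x ∈ UU S.M) : qq z x = 0 := by
  by_cases h1 : x = 1
  · rw [h1, qq_one]
  by_cases h2 : x = z
  · rw [h2, qq_self]
  obtain ⟨v, hv, h⟩ := S.M.type_of_invol (S.UU_le_Q hx) h1 h2 (S.sq_AA (hOC 0) (UU_le _ 0 hx))
  obtain ⟨w, a, b⟩ := sup_of_mem_AA S.M (hOC 0) (S.UU_le_Q hx) (UU_le _ 0 hx)
  obtain ⟨w', a', b'⟩ := sup_of_mem_AA S.M (hOC 1) (S.UU_le_Q hx) (UU_le _ 1 hx)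
  exact S.qq_64 hv (h.resolve_left (sing a a' (cg_of_cls S.M b b') (cg_of_cls S.M hv b)))

theorem card_ge {B : Subgroup G} (hz : z ∈ B) (hs : s ∈ B) (hu : ∀ k x, cls (lvT k) x → x ∈ B) :
    32 ≤ Nat.card B := by
  choose c hc e using exists_test
  choose t ht using fun j => S.M.ex_elt (lrep _ (hc j))
  choose u hu' using fun k => S.M.ex_elt (lvT k)
  have h1 : ∀ k j, u k ∈ centralizer ({t j} : Set G) ↔ k ≠ j := fun k j => by
    rw [mem_cent_iff, S.M.commute_iff (hu' k) (ht j), lvT, dot_lv4_lrep, ← e]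
    omega
  have h2 : ∀ j, s ∈ centralizer ({t j} : Set G) := fun j => by
    rw [mem_cent_iff, S.M.commute_iff S.hs (ht j), dot_e8, lrep_apply]
    split_ifs <;> norm_num
  have h3 : ∀ x ∈ Q, z ∈ centralizer ({x} : Set G) := fun x hx =>
    mem_cent_iff.2 (S.M.h.central x hx).symm
  obtain ⟨r, hr, h4⟩ := S.M.h.exists_noncomm S.pair.sQ S.pair.h'.ne_one S.pair.ne
  have a0 := two_mul_card_le (inf_le_left : B ⊓ centralizer {t 0} ≤ B) (hu _ _ (hu' 0))
    fun h => (h1 0 0).1 h.2 rfl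
  have a1 := two_mul_card_le (inf_le_left : B ⊓ centralizer {t 0} ⊓ centralizer {t 1} ≤ _)
    ⟨hu _ _ (hu' 1), (h1 1 0).2 (by decide)⟩ fun h => (h1 1 1).1 h.2 rfl
  have a2 := two_mul_card_le
    (inf_le_left : B ⊓ centralizer {t 0} ⊓ centralizer {t 1} ⊓ centralizer {t 2} ≤ _)
    ⟨⟨hu _ _ (hu' 2), (h1 2 0).2 (by decide)⟩, (h1 2 1).2 (by decide)⟩ fun h => (h1 2 2).1 h.2 rfl
  have a3 := two_mul_card_le (inf_le_left : B ⊓ centralizer {t 0} ⊓ centralizer {t 1} ⊓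
    centralizer {t 2} ⊓ centralizer {r} ≤ _) ⟨⟨⟨hs, h2 0⟩, h2 1⟩, h2 2⟩
    fun h => h4 (mem_cent_iff.1 h.2).symm
  have a4 := two_mul_card_le (bot_le : ⊥ ≤ B ⊓ centralizer {t 0} ⊓ centralizer {t 1} ⊓
    centralizer {t 2} ⊓ centralizer {r}) ⟨⟨⟨⟨hz, h3 _ (S.M.mem (ht 0))⟩, h3 _ (S.M.mem (ht 1))⟩,
      h3 _ (S.M.mem (ht 2))⟩, h3 _ hr⟩ S.M.h.ne_one
  rw [card_bot] at a4
  omega

theorem card_UU : Nat.card (UU S.M) = 2 ^ 5 := by
  obtain ⟨e, ρ, C, q, hq⟩ := S.exists_form (hOC 0)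
  obtain ⟨k, -, hk⟩ := (Nat.dvd_prime_pow Nat.prime_two).1
    (S.card_AA (hOC 0) ▸ card_dvd_of_le (UU_le S.M 0))
  have h1 := H66.two_mul_finrank_le_of_singular (H12.nondeg_iff.1 (S.nondeg (hOC 0) C hq))
    (C.sub (UU S.M)) fun u hu => (hq u).trans (S.qq_UU hu)
  rw [C.finrank_sub (UU_le S.M 0) hk, Module.finrank_fin_fun] at h1
  have h2 := S.card_ge (z_mem_UU S.M) S.s_mem_UU fun _ _ => mem_UU_of_cls S.M
  rw [hk] at h2 ⊢
  have h3 : 5 ≤ k := (Nat.pow_le_pow_iff_right (by norm_num : 1 < 2)).1 h2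
  congr 1; omega

theorem UU_le_of {B : Subgroup G} (hz : z ∈ B) (hs : s ∈ B) (hu : ∀ k x, cls (lvT k) x → x ∈ B) :
    UU S.M ≤ B := inf_eq_left.1 (eq_of_le_of_card_ge inf_le_left (S.card_UU ▸ S.card_ge
      ⟨z_mem_UU S.M, hz⟩ ⟨S.s_mem_UU, hs⟩ fun k x h => ⟨mem_UU_of_cls S.M h, hu k x h⟩))

end St

theorem eqns_Sing : True := by
  have := @UU.eq_1.{0}
  trivial

end H7.ML
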