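import Mathlib
import Cfsg.Agent.Lib.MonLoc.Sing
import Cfsg.Agent.Lib.M24Geom.Six
import Cfsg.Agent.Lib.Core.Frattini

/-!
Groups of Monster type: the normalizer of the elementary abelian subgroup of order `2 ^ 10`.
-/

set_option autoImplicit false
set_option linter.unusedSectionVars false

namespace H7.ML

open Cfsg Subgroup H95 H16 QuadraticMap
open scoped symmDiff Pointwise

theorem Sup.mono_fix {O : Finset GolayPt} {σ : Equiv.Perm GolayPt} (hσ : σ ∈ M24)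
    {d : Finset GolayPt} (hd : d ∈ code) (h1 : ∀ i ∈ O, σ i = i)
    (h2 : ∀ i ∈ O, ∀ j ∈ O, (i ∈ d ↔ j ∈ d)) {w : leechLattice} (hw : Sup O w) :
    Cg (mono σ hσ d hd • w) w := by
  have e : permHom ⟨σ, hσ⟩ • w = w := Subtype.ext (funext fun i => by
    obtain ⟨j, rfl⟩ := σ.surjective i
    refine (permHom_smul_apply ⟨σ, hσ⟩ w j).trans ?_
    by_cases hj : j ∈ O
    · rw [h1 j hj]
    · rw [hw j hj, hw _ fun h => hj (by rwa [σ.injective (h1 _ h)] at h)])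
  rw [mono_eq_eps_mul, mul_smul, e]
  by_cases h : ∃ i ∈ O, i ∈ d
  · obtain ⟨i, hi, a⟩ := h
    exact Sup.fix hd fun j hj => hw j fun b => hj ((h2 i hi j b).1 a)
  · exact Sup.fix_compl hd fun j hj => hw j fun b => h ⟨j, b, by simpa using hj⟩

theorem sqNorm_lv44_add {i j k l : GolayPt} (hij : i ≠ j) (hkl : k ≠ l) (h1 : i ≠ k) (h2 : i ≠ l)
    (h3 : j ≠ k) (h4 : j ≠ l) :
    sqNorm ((lv44 i j + lv44 k l : leechLattice) : GolayPt → ℤ) = 64 := by
  rw [AddSubgroup.coe_add, sqNorm_add, sqNorm_lv44 hij, sqNorm_lv44 hkl, dotInt_def,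
    Finset.sum_eq_zero fun a _ => ?_]
  · rfl
  · rw [lv44_apply, lv44_apply]
    split_ifs <;> first | rfl | (subst_vars; contradiction)

theorem sqNorm_lv44_sub {i j : GolayPt} (hij : i ≠ j) :
    sqNorm ((lv44 i j - e8 j : leechLattice) : GolayPt → ℤ) = 32 := by
  rw [AddSubgroup.coe_sub, sqNorm_sub, sqNorm_lv44 hij, sqNorm_e8, dotInt_comm, dot_e8, lv44_apply,
    if_neg hij.symm, if_pos rfl]
  rfl

theorem cg_e8 (i j : GolayPt) : Cg (e8 i) (-e8 j) :=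
  cg_of_two (lv44 i j).2 fun k => by
    simp only [AddSubgroup.coe_neg, Pi.neg_apply, e8_apply, lv44_apply]
    split_ifs <;> rfl

variable {G : Type*} [Group G] {z s : G} {Q Q' : Subgroup G}
  {φ : centralizer ({z} : Set G) →* Spor.Co1} {cls : leechLattice → G → Prop}

namespace St

variable [Finite G] (S : St z s Q Q' φ cls) {O : Finset GolayPt} (hO : O ∈ octads)
include S

theorem inf_cent_AA : Q ⊓ centralizer (AA S.M hO.1 : Set G) = TT S.M hO.1 := by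
  ext x
  refine ⟨fun hx => ?_, fun hx => ⟨TT_le _ _ hx, fun a ha => (ha x hx).symm⟩⟩
  obtain ⟨-, -, -, -, y, -, hy, -, -, -, -, h2, -⟩ := S.exists_y hO
  obtain ⟨v, hv⟩ := S.M.ex_cls x hx.1
  exact ⟨v, hv, S.M.cg_of_comm hv (hx.2 y hy) h2⟩

theorem cent_AA_le : centralizer (AA S.M hO.1 : Set G) ≤ centralizer ({z} : Set G) :=
  centralizer_le (Set.singleton_subset_iff.2 (z_mem_AA _ _))

theorem mem_img_AA {σ : Equiv.Perm GolayPt} (hσ : σ ∈ M24) {d : Finset GolayPt} (hd : d ∈ code) :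
    mono σ hσ d hd ∈ imgN φ (centralizer (AA S.M hO.1 : Set G)) ↔
      (∀ i ∈ O, σ i = i) ∧ ∀ i ∈ O, ∀ j ∈ O, (i ∈ d ↔ j ∈ d) := by
  rw [mem_imgN]
  constructor
  · rintro ⟨b, hb, e⟩
    refine mono_fix (hσ := hσ) (hd := hd) (by rw [hO.2]; norm_num) fun i hi j hj _ => ?_
    obtain ⟨x, hx⟩ := S.M.ex_elt (lv44 i j)
    exact S.M.cg_of_comm hx (hb x (mem_AA_of_sup S.M hO hx (sup_lv44 hi hj))).symm e
  · rintro ⟨h1, h2⟩
    obtain ⟨c, hc⟩ := S.M.exists_lift (mono σ hσ d hd)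
    have hn := norm_AA S.M hO.1 hc (mono_mul_eps hσ hd hO.1 hO.1 (H15.smul_eq_of_fix h1))
    obtain ⟨e, ρ, C, q, hq⟩ := S.exists_form hO
    obtain ⟨u, hu⟩ := C.surj z (z_mem_AA _ _)
    obtain ⟨-, -, -, -, y, -, hy, h3, -⟩ := S.exists_y hO
    obtain ⟨y, rfl⟩ := C.surj y hy
    have h4 : polar q u y = 1 :=
      (zmod2_eq _).resolve_left fun h => h3 ((S.polar_z hO C hq hu y).1 h)
    let g : H12.O q := ⟨_, S.mem_O hO C hq ⟨c, hn⟩⟩
    have h5 : g.1 u = u := C.inj (by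
      rw [C.act, hu]; exact mul_inv_eq_iff_eq_mul.2 (mem_cent_iff.1 c.2))
    have h6 : polar q u (g.1 y - y) = 0 := by
      rw [polar_sub_right, ← H12.O.map_B g u y, h5, sub_self]
    obtain ⟨x, hx, ex⟩ := S.eich_z hO C hq hu h6
    have h7 := (eq_eich (g := g) (by rw [hq, hu, qq_self]) h4 h6 (fun v hv => ?_)
      (Or.inl (by abel))).trans ex
    · refine ⟨(⟨x, S.M.h.le_centralizer hx⟩ : centralizer ({z} : Set G))⁻¹ * c,
        (C.ker ((⟨x, Q_le_norm _ _ hx⟩ : normalizer _)⁻¹ * ⟨c, hn⟩)).1 ?_, ?_⟩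
      · rw [map_mul, map_inv, inv_mul_eq_one]
        exact (congrArg Subtype.val h7).symm
      · rw [map_mul, map_inv, (S.M.ker ⟨x, _⟩).2 hx, hc, inv_one, one_mul]
    · obtain ⟨w, a, b⟩ := sup_of_mem_AA S.M hO ((S.polar_z hO C hq hu v).1 hv) (C.mem v)
      refine ((S.M.eq_iff b (S.M.smul c _ hc b)).1 (a.mono_fix hσ hd h1 h2).symm).imp
        (fun f => C.inj ?_) fun f => C.inj ?_
      · exact (C.act _ _).trans f
      · rw [C.add, hu]; exact (C.act _ _).trans f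

theorem img_le {H : Subgroup G} (h : ∀ c ∈ H, s * c = c * s) : imgN φ H ≤ monoGroup := fun _ hγ => by
  obtain ⟨b, hb, e⟩ := mem_imgN.1 hγ
  exact mem_monoGroup_iff_cg.2 (S.M.cg_of_comm S.hs (h b hb).symm e)

theorem card_cent_AA : Nat.card (centralizer (AA S.M (hOC 0).1 : Set G)) = 2 ^ 26 := by
  have h1 := card_imgN S.M (S.cent_AA_le (hOC 0))
  have h2 := card_mono_filter _ _ _ (S.img_le (H := centralizer (AA S.M (hOC 0).1 : Set G))
    fun c hc => hc s (S.s_mem_AA (hOC 0))) fun _ hσ _ hd => S.mem_img_AA (hOC 0) hσ hd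
  rw [ncard_64, H96.Geo.card_subtype_fixSet, H15.card_fixSet_octad (hOC 0)] at h2
  rw [S.inf_cent_AA (hOC 0), card_TT S.M (hOC 0), show Nat.card (imgN φ _) = _ from h2] at h1
  omega

section

variable {e : (Fin 10 → ZMod 2) → G}
  {ρ : normalizer (AA S.M hO.1 : Set G) →* ((Fin 10 → ZMod 2) ≃ₗ[ZMod 2] (Fin 10 → ZMod 2))}
  (C : Co (AA S.M hO.1) 10 e ρ) {q : QuadraticForm (ZMod 2) (Fin 10 → ZMod 2)}
  (hq : ∀ v, q v = qq z (e v))
include C hq

/-- No element of the normalizer induces a reflection. -/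
theorem range_ne_top : (ρ.codRestrict _ (S.mem_O hO C hq)).range ≠ ⊤ := by
  intro h
  obtain ⟨p, hp, hpO⟩ := H15.exists_inj_into (s := O) (k := 3) (by rw [hO.2]; norm_num)
  have h01 : p 0 ≠ p 1 := hp.ne (by decide)
  have h02 : p 0 ≠ p 2 := hp.ne (by decide)
  have h12 : p 1 ≠ p 2 := hp.ne (by decide)
  have ex : ∀ i ∈ O, ∀ j ∈ O, ∃ v, cls (lv44 i j) (e v) := fun i hi j hj => by
    obtain ⟨x, hx⟩ := S.M.ex_elt (lv44 i j)
    obtain ⟨v, rfl⟩ := C.surj x (mem_AA_of_sup S.M hO hx (sup_lv44 hi hj))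
    exact ⟨v, hx⟩
  obtain ⟨r, hr⟩ := ex _ (hpO 0) _ (hpO 1)
  have qr := S.qq_32 hr (sqNorm_lv44 h01)
  obtain ⟨n, hn⟩ := h.ge (mem_top (H12.refl q r))
  have act : ∀ v, n * e v * (n : G)⁻¹ = e (v + polar q v r • r) := fun v => by
    rw [← C.act, show ρ n = (H12.refl q r).1 from congrArg Subtype.val hn, H12.refl_apply, hq, qr,
      inv_one, one_mul, sub_eq_add_neg, ZModModule.neg_eq_self]
  have fix : ∀ v, polar q v r = 0 → n * e v = e v * n := fun v hv => by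
    have := act v
    rwa [hv, zero_smul, add_zero, mul_inv_eq_iff_eq_mul] at this
  obtain ⟨u, hu⟩ := C.surj z (z_mem_AA _ _)
  obtain ⟨t, ht⟩ := C.surj s (S.s_mem_AA hO)
  have nz := fix u ((S.polar_z hO C hq hu r).2 (S.M.mem hr))
  have ns := fix t (by
    have a := S.M.add hr S.hs
    rw [polar_comm, S.polar_eq hO C hq, ht, qr, S.qq_64 S.hs (sqNorm_e8 _),
      S.qq_32 (S.M.congr a (by
        simpa [sub_eq_add_neg] using (Cg.refl _).add (cg_e8 none (p 1)))) (sqNorm_lv44_sub h01)]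
    rfl)
  rw [hu] at nz
  rw [ht] at ns
  obtain ⟨σ, hσ, d, hd, hγ⟩ := S.exists_mono ⟨n, mem_cent_iff.2 nz⟩ ns
  have h1 := (mono_fix (hσ := hσ) (hd := hd) (S := (O.erase (p 0)).erase (p 1)) (by
    rw [Finset.card_erase_of_mem (Finset.mem_erase.2 ⟨h01.symm, hpO 1⟩),
      Finset.card_erase_of_mem (hpO 0), hO.2]; norm_num) fun k hk l hl hkl => by
    simp only [Finset.mem_erase] at hk hl
    obtain ⟨v, hv⟩ := ex k hk.2.2 l hl.2.2
    refine S.M.cg_of_comm hv (c := ⟨n, mem_cent_iff.2 nz⟩) (fix v ?_) hγ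
    rw [S.polar_eq hO C hq, qr, S.qq_32 hv (sqNorm_lv44 hkl), S.qq_64 (S.M.add hv hr)
      (sqNorm_lv44_add hkl h01 hk.2.1 hk.1 hl.2.1 hl.1)]
    rfl).1
  have h2 := H96.Geo.fix_octad_of_six hσ hO ((Finset.erase_subset _ _).trans (Finset.erase_subset _ _))
    (by rw [Finset.card_erase_of_mem (Finset.mem_erase.2 ⟨h01.symm, hpO 1⟩),
      Finset.card_erase_of_mem (hpO 0), hO.2]) h1
  obtain ⟨v, hv⟩ := ex _ (hpO 2) _ (hpO 0)
  have h3 : Cg (lv44 (p 2) (p 0) + lv44 (p 0) (p 1)) (lv44 (p 2) (p 1) - e8 (p 1)) :=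
    cg_of_two (lv44 (p 0) (p 1)).2 fun k => by
      simp only [AddSubgroup.coe_add, AddSubgroup.coe_sub, Pi.add_apply, Pi.sub_apply, e8_apply,
        lv44_apply]
      split_ifs <;> rfl
  have h4 := S.M.congr (S.M.add hv hr) h3
  have h5 := act v
  rw [S.polar_eq hO C hq, qr, S.qq_32 hv (sqNorm_lv44 h02.symm),
    S.qq_32 h4 (sqNorm_lv44_sub h12.symm), show (1 + 1 + 1 : ZMod 2) = 1 from rfl, one_smul,
    C.add] at h5
  have h6 := S.M.smul ⟨n, mem_cent_iff.2 nz⟩ _ hγ hv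
  rw [h5] at h6
  have h7 := mono_smul_apply hσ hd (lv44 (p 2) (p 0)) (p 0)
  rw [h2 _ (hpO 0)] at h7
  rcases (cg_of_cls S.M h6 h4).short (by rw [sqNorm_co0, sqNorm_lv44 h02.symm]; norm_num)
    (by rw [sqNorm_lv44_sub h12.symm]; norm_num) with a | a | a
  · rw [a] at h7
    simp only [AddSubgroup.coe_sub, Pi.sub_apply, lv44_apply, e8_apply, h01, h02, if_true,
      if_false] at h7
    split_ifs at h7 <;> omega
  · rw [a] at h7
    simp only [AddSubgroup.coe_neg, Pi.neg_apply, AddSubgroup.coe_sub, Pi.sub_apply, lv44_apply,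
      e8_apply, h01, h02, if_true, if_false] at h7
    split_ifs at h7 <;> omega
  · rw [sqNorm_lv44_sub h12.symm] at a
    omega

theorem range_eq : (ρ.codRestrict _ (S.mem_O hO C hq)).range = H12.Om q := by
  have nd := S.nondeg hO C hq
  have h := isCoatom_of_index_eq_two
    (H12.index_Om_even nd (H12.good_of_finrank_ne nd (by simp)) rfl (by simp))
  exact ((S.Om_le hO C hq).eq_or_lt.resolve_right fun a =>
    S.range_ne_top hO C hq (h.2 _ a)).symm

end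

theorem cent_mod : (∀ x ∈ centralizer (AA S.M (hOC 0).1 : Set G),
    ∀ y ∈ centralizer (AA S.M (hOC 0).1 : Set G), x * y * x⁻¹ * y⁻¹ ∈ AA S.M (hOC 0).1) ∧
      ∀ x ∈ centralizer (AA S.M (hOC 0).1 : Set G), x * x ∈ AA S.M (hOC 0).1 := by
  have hO := hOC 0
  obtain ⟨-, -, -, -, y, -, hy, h1, -, -, h2, -⟩ := S.exists_y hO
  obtain ⟨n, hn, hb⟩ := S.trans_AA hO (mul_mem hy (z_mem_AA _ _)) h2
  have hbA : n * z * n⁻¹ ∈ AA S.M hO.1 := conj_mem_of_normalizer hn (z_mem_AA _ _)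
  have hbQ : n * z * n⁻¹ ∉ Q := fun h => h1 ((mul_mem_cancel_right S.M.h.mem).1 (hb ▸ h))
  have es := S.M.h.toES.map_conj n
  have cC := S.card_cent_AA
  have cT := card_TT S.M hO
  have cA := S.card_AA hO
  have cI : Nat.card (TT S.M hO.1 ⊓ AA S.M hO.1 : Subgroup G) = 2 ^ 9 := by
    rw [← card_inf_AA S.M hO]
    congr 2
    ext x
    exact ⟨fun h => ⟨TT_le _ _ h.1, h.2⟩, fun h => ⟨inf_le_TT _ hO h.1 h.2, h.2⟩⟩
  have hT := S.inf_cent_AA hO
  have zA := z_mem_AA S.M hO.1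
  have hA := AA_eq S.M hO.1
  have AC : AA S.M hO.1 ≤ centralizer (AA S.M hO.1 : Set G) := fun a ha b hb => S.comm_AA hO hb ha
  have CZ := S.cent_AA_le hO
  generalize AA S.M hO.1 = A at *
  generalize TT S.M hO.1 = T at *
  have TC : T ≤ centralizer (A : Set G) := hT ▸ inf_le_right
  have TQ : T ≤ Q := hT ▸ inf_le_left
  have nT : ∀ c ∈ centralizer (A : Set G), ∀ t ∈ T, c * t * c⁻¹ ∈ T := fun c hc t ht =>
    hT ▸ ⟨conj_mem_of_normalizer (S.M.h.norm c (mem_cent_iff.1 (CZ hc))) (TQ ht),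
      (centralizer _).mul_mem (mul_mem hc (TC ht)) (inv_mem hc)⟩
  obtain ⟨T', hT'⟩ : ∃ T', T' = T.map (MulAut.conj n).toMonoidHom := ⟨_, rfl⟩
  have mT : ∀ x, x ∈ T' ↔ n⁻¹ * x * n ∈ T := fun x => hT' ▸ mem_map_conj
  have TQ' : T' ≤ Q.map (MulAut.conj n).toMonoidHom := hT' ▸ map_mono TQ
  have cj : ∀ c ∈ centralizer (A : Set G), n⁻¹ * c * n ∈ centralizer (A : Set G) := fun c hc => by
    simpa using Pair.conj_mem_cent_V (inv_mem hn) hc
  have TC' : T' ≤ centralizer (A : Set G) := fun x hx => by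
    simpa [mul_assoc] using Pair.conj_mem_cent_V hn (TC ((mT x).1 hx))
  have nT' : ∀ c ∈ centralizer (A : Set G), ∀ t ∈ T', c * t * c⁻¹ ∈ T' := fun c hc t ht =>
    (mT _).2 (by simpa [mul_assoc] using nT _ (cj c hc) _ ((mT t).1 ht))
  have key : ∀ t ∈ T, ∀ t' ∈ T', ∀ a ∈ A, t = t' * a → t ∈ A := by
    intro t ht t' ht' a ha e
    have h3 : n⁻¹ * t * n ∈ A := by
      rw [hA]
      intro r hr
      have h4 : n * r * n⁻¹ ∈ T' := (mT _).2 (by simpa [mul_assoc] using hr)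
      have h5 : t * (n * r * n⁻¹) * t⁻¹ * (n * r * n⁻¹)⁻¹ ∈ Q := by
        simpa [mul_assoc] using TQ (mul_mem ht (nT _ (TC' h4) _ (inv_mem ht)))
      have h6 : t * (n * r * n⁻¹) * t⁻¹ = t' * (n * r * n⁻¹) * t'⁻¹ := by
        rw [e, mul_assoc t', TC' h4 a ha]; group
      have h7 := (es.commutator_eq (TQ' ht') (TQ' h4)).resolve_right fun f => hbQ (by rwa [h6, f] at h5)
      rw [← h6] at h7
      calc r * (n⁻¹ * t * n) = n⁻¹ * (t * (n * r * n⁻¹) * t⁻¹ * (n * r * n⁻¹)⁻¹) * (n * r * n⁻¹) *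
            t * n := by rw [h7]; group
        _ = _ := by group
    simpa [mul_assoc] using conj_mem_of_normalizer hn h3
  have AT : A ≤ normalizer (T : Set G) := le_normalizer_of_conj fun c hc => nT c (AC hc)
  have AT' : A ≤ normalizer (T' : Set G) := le_normalizer_of_conj fun c hc => nT' c (AC hc)
  have c1 := H24.card_sup_mul_card_inf' AT
  have c2 : Nat.card (T' ⊔ A : Subgroup G) = Nat.card (T ⊔ A : Subgroup G) := by
    rw [← card_map_of_injective (K := T ⊔ A) (f := (MulAut.conj n).toMonoidHom)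
      (MulAut.conj n).injective, Subgroup.map_sup, ← hT',
      show A.map (MulAut.conj n).toMonoidHom = A from Subgroup.ext fun x => mem_map_conj.trans
        ⟨fun h => by simpa [mul_assoc] using conj_mem_of_normalizer hn h,
          conj_mem_of_normalizer' hn⟩]
  have c3 := H24.card_sup_mul_card_inf (A := T ⊔ A) (B := T' ⊔ A)
    (le_normalizer_of_conj fun c hc x hx => by
      obtain ⟨t, ht, a, ha, rfl⟩ := (mem_sup_iff_of_norm AT').1 hx
      have hc' := sup_le TC AC hc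
      rw [mul_assoc, mul_assoc, inv_mem hc' a ha, ← mul_assoc, ← mul_assoc]
      exact mul_mem (mem_sup_left (nT' c hc' t ht)) (mem_sup_right ha))
  have c4 : (T ⊔ A) ⊓ (T' ⊔ A) = A := le_antisymm (fun x hx => by
    obtain ⟨t, ht, a, ha, e⟩ := (mem_sup_iff_of_norm AT).1 hx.1
    obtain ⟨t', ht', a', ha', e'⟩ := (mem_sup_iff_of_norm AT').1 hx.2
    rw [← e]
    exact mul_mem (key t ht t' ht' _ (mul_mem ha' (inv_mem ha)) (by rw [← mul_assoc, e', ← e]; group)) ha)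
    (le_inf le_sup_right le_sup_right)
  rw [cI, cT, cA] at c1
  rw [c4, c2, cA, show Nat.card (T ⊔ A : Subgroup G) = 2 ^ 18 by omega] at c3
  have c5 : T ⊔ A ⊔ (T' ⊔ A) = centralizer (A : Set G) :=
    eq_of_le_of_card_ge (sup_le (sup_le TC AC) (sup_le TC' AC)) (by omega)
  have mix : ∀ t ∈ T, ∀ t' ∈ T', t * t' * t⁻¹ * t'⁻¹ ∈ A := fun t ht t' ht' =>
    key _ (by simpa [mul_assoc] using mul_mem ht (nT _ (TC' ht') _ (inv_mem ht))) _
      (mul_mem (nT' _ (TC ht) _ ht') (inv_mem ht')) 1 (one_mem _) (mul_one _).symm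
  have PC : ∀ x, x ∈ T ∨ x ∈ T' ∨ x ∈ A → x ∈ centralizer (A : Set G) := fun x hx =>
    hx.elim (fun a => TC a) fun a => a.elim (fun a => TC' a) fun a => AC a
  refine mod_elem le_rfl PC (fun B hB => c5 ▸ sup_le (sup_le (fun x h => hB x (Or.inl h))
    fun x h => hB x (Or.inr (Or.inr h))) (sup_le (fun x h => hB x (Or.inr (Or.inl h)))
      fun x h => hB x (Or.inr (Or.inr h)))) (fun x hx y hy => ?_) fun x hx => ?_
  · rcases hx with a | a | a
    · rcases hy with b | b | b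
      · rcases S.M.h.commutator_eq (TQ a) (TQ b) with e | e <;> rw [e]
        exacts [one_mem _, zA]
      · exact mix x a y b
      · rw [← TC a y b]; simp
    · rcases hy with b | b | b
      · simpa [mul_assoc] using inv_mem (mix y b x a)
      · rcases es.commutator_eq (TQ' a) (TQ' b) with e | e <;> rw [e]
        exacts [one_mem _, hbA]
      · rw [← TC' a y b]; simp
    · rw [PC y hy x a]; simp
  · rcases hx with a | a | a
    · rcases S.M.h.sq_mem (TQ a) with e | e <;> rw [e]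
      exacts [one_mem _, zA]
    · rcases es.sq_mem (TQ' a) with e | e <;> rw [e]
      exacts [one_mem _, hbA]
    · exact mul_mem a a

theorem ten_local : ∃ (E N : Subgroup G) (O : Subgroup N), IsElementaryAbelian 2 E ∧
    Nat.card E = 2 ^ 10 ∧ N = normalizer (E : Set G) ∧ O = pCore 2 N ∧ IsSpecial 2 O ∧
    Nat.card O = 2 ^ 26 ∧ (center O).map O.subtype = E.subgroupOf N ∧
    O = centralizer (E.subgroupOf N : Set N) ∧
    ∃ _ : O.Normal, Nonempty (N ⧸ O ≃* Omega (ZMod 2) (quadFormPlus 5 (ZMod 2))) := by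
  have hO := hOC 0
  obtain ⟨e, ρ, C, q, hq⟩ := S.exists_form hO
  have nd := S.nondeg hO C hq
  obtain ⟨u, f, -, hyp, -⟩ := S.exists_hyp hO C hq
  obtain ⟨ι⟩ := Om_equiv nd (by simp) (C.sub (UU S.M)) (fun u hu => (hq u).trans (S.qq_UU hu))
    (C.finrank_sub (UU_le S.M 0) S.card_UU)
  have hr := S.range_eq hO C hq
  let Ψ := (ρ.codRestrict _ (S.mem_O hO C hq)).codRestrict (H12.Om q) fun n => hr ▸ ⟨n, rfl⟩
  have Ψ1 : Function.Surjective Ψ := fun g => by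
    obtain ⟨n, hn⟩ := hr.ge g.2
    exact ⟨n, Subtype.ext hn⟩
  have Ψ2 : ∀ n, n ∈ Ψ.ker ↔ (n : G) ∈ centralizer (AA S.M hO.1 : Set G) := fun n => by
    rw [← C.ker, MonoidHom.mem_ker, Subtype.ext_iff, Subtype.ext_iff]; rfl
  have CN : centralizer (AA S.M hO.1 : Set G) ≤ normalizer (AA S.M hO.1 : Set G) :=
    centralizer_le_normalizer _
  have AC : AA S.M hO.1 ≤ centralizer (AA S.M hO.1 : Set G) := fun a ha b hb => S.comm_AA hO hb ha
  have TC : TT S.M hO.1 ≤ centralizer (AA S.M hO.1 : Set G) := S.inf_cent_AA hO ▸ inf_le_right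
  have hc : Nat.card Ψ.ker = 2 ^ 26 := by
    rw [show Ψ.ker = (centralizer (AA S.M hO.1 : Set G)).subgroupOf _ from Subgroup.ext Ψ2,
      Nat.card_congr (subgroupOfEquivOfLe CN).toEquiv, S.card_cent_AA]
  have hp : IsPGroup 2 Ψ.ker := IsPGroup.of_card hc
  have hZ : ∀ x : Ψ.ker, x ∈ center Ψ.ker ↔ x.1.1 ∈ AA S.M hO.1 := fun x => by
    rw [Subgroup.mem_center_iff]
    exact ⟨fun h t ht => congrArg (fun y : Ψ.ker => y.1.1)
      (h ⟨⟨t, CN (TC ht)⟩, (Ψ2 _).2 (TC ht)⟩),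
      fun h y => Subtype.ext (Subtype.ext ((Ψ2 _).1 y.2 _ h).symm)⟩
  have h1 : commutator Ψ.ker ≤ center Ψ.ker := commutator_le.2 fun x _ y _ =>
    (hZ _).2 (S.cent_mod.1 _ ((Ψ2 _).1 x.2) _ ((Ψ2 _).1 y.2))
  have h2 : center Ψ.ker ≤ commutator Ψ.ker := fun x hx => by
    have h3 := S.AA_le_of_inv hO (B := ⁅Ψ.ker, Ψ.ker⁆.map (normalizer _).subtype) ?_ ?_ ((hZ x).1 hx)
    · rw [← map_subtype_commutator] at h3
      obtain ⟨_, ⟨y, hy, rfl⟩, e⟩ := h3
      rwa [← show y = x from Subtype.ext (Subtype.ext e)]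
    · obtain ⟨t, ht, t', ht', h4⟩ : ∃ t ∈ TT S.M hO.1, ∃ t' ∈ TT S.M hO.1, t' * t ≠ t * t' := by
        by_contra hn
        push Not at hn
        have := card_le_of_le (show TT S.M hO.1 ≤ AA S.M hO.1 from fun t ht t' ht' => hn t ht t' ht')
        rw [card_TT S.M hO, S.card_AA hO] at this
        omega
      refine ⟨_, commutator_mem_commutator ((Ψ2 ⟨t⁻¹, CN (TC (inv_mem ht))⟩).2 (TC (inv_mem ht)))
        ((Ψ2 ⟨t', CN (TC ht')⟩).2 (TC ht')), ?_⟩
      change t⁻¹ * t' * t⁻¹⁻¹ * t'⁻¹ = z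
      rw [inv_inv, mul_assoc, mul_assoc, ← mul_assoc t',
        S.M.h.conj_of_ne (TT_le _ _ ht) (TT_le _ _ ht') h4, inv_mul_cancel_left]
    · rintro n hn _ ⟨b, hb, rfl⟩
      exact ⟨_, (commutator_normal _ _).conj_mem b hb ⟨n, hn⟩, rfl⟩
  refine ⟨AA S.M hO.1, _, Ψ.ker, ⟨.of_setLike_mul_comm fun _ ha _ hb => S.comm_AA hO ha hb,
    fun a ha => by rw [pow_two, S.sq_AA hO ha]⟩, S.card_AA hO, rfl,
    pCore_eq_ker Ψ1 (pCore_Om nd hyp (by simp)) hp, ⟨hp, le_antisymm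
      (H1.frattini_le_of_commutator_le_of_pow_mem Nat.prime_two h1 fun x => (hZ _).2 ?_)
      (h2.trans (H1.commutator_le_frattini hp)), le_antisymm h1 h2⟩, hc, ?_, ?_, inferInstance,
    ⟨(QuotientGroup.quotientKerEquivOfSurjective Ψ Ψ1).trans ι⟩⟩
  · rw [pow_two]; exact S.cent_mod.2 _ ((Ψ2 _).1 x.2)
  · ext x
    exact ⟨by rintro ⟨y, hy, rfl⟩; exact (hZ y).1 hy,
      fun h => ⟨⟨x, (Ψ2 x).2 (AC h)⟩, (hZ _).2 h, rfl⟩⟩
  · ext x
    exact (Ψ2 x).trans ⟨fun h y hy => Subtype.ext (h y hy),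
      fun h a ha => congrArg Subtype.val (h ⟨a, CN (AC ha)⟩ ha)⟩

end St

end H7.ML
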